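import Groth.Agent.CurveCohLib.SubBundle
import Mathlib.AlgebraicGeometry.ResidueField
import Mathlib.AlgebraicGeometry.Morphisms.Separated
import Mathlib.AlgebraicGeometry.Noetherian
import Mathlib.Topology.Sober

/-! Points, residue fields and separatedness on Noetherian schemes of dimension at most one. -/

noncomputable section

set_option linter.style.haveILetI false
set_option backward.isDefEq.respectTransparency false
set_option backward.isDefEq.respectTransparency.types false

universe u

open CategoryTheory CategoryTheory.Limits AlgebraicGeometry TopologicalSpace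

namespace Groth.Agent.DimOne

variable {X : Scheme.{u}}

/-- A point with no proper generization. -/
def IsGen (c : X) : Prop := ∀ y : X, y ⤳ c → y = c

theorem isClosed_singleton (hdim : topologicalKrullDim X ≤ 1) {x : X} (hx : ¬ IsGen x) :
    IsClosed ({x} : Set X) := by
  obtain ⟨y, hyx, hne⟩ : ∃ y, y ⤳ x ∧ y ≠ x := by
    simpa only [IsGen, not_forall, exists_prop] using hx
  rw [← closure_eq_iff_isClosed]
  refine subset_antisymm (fun z hz => ?_) subset_closure
  by_contra hzx
  have key : ∀ {p q : X}, q ⤳ p → p ≠ q →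
      (⟨closure {p}, isIrreducible_singleton.closure, isClosed_closure⟩ : IrreducibleCloseds X) <
        ⟨closure {q}, isIrreducible_singleton.closure, isClosed_closure⟩ := by
    intro p q h hne
    rw [← SetLike.coe_ssubset_coe]
    refine ⟨isClosed_closure.closure_subset_iff.2 (by simpa using h.mem_closure), fun hle => hne ?_⟩
    exact ((specializes_iff_mem_closure.2 (hle (subset_closure rfl))).antisymm h).eq
  let s : LTSeries (IrreducibleCloseds X) :=
    RelSeries.cons ((RelSeries.singleton _ _).cons _ (key hyx hne.symm))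
      ⟨closure {z}, isIrreducible_singleton.closure, isClosed_closure⟩
      (by simp only [RelSeries.head_cons]; exact key (specializes_iff_mem_closure.2 hz) hzx)
  have h2 : (2 : WithBot ℕ∞) ≤ topologicalKrullDim X := by
    refine le_trans (le_of_eq ?_) (Order.LTSeries.length_le_krullDim s)
    simp only [s, RelSeries.cons_length, RelSeries.singleton_length]
    rfl
  exact absurd (h2.trans hdim) (by decide)

theorem exists_isGen_specializes (x : X) : ∃ c : X, IsGen c ∧ c ⤳ x := by
  obtain ⟨η, hη⟩ := QuasiSober.sober (S := irreducibleComponent x) isIrreducible_irreducibleComponent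
    isClosed_irreducibleComponent
  refine ⟨η, fun y hy => ?_, hη.specializes mem_irreducibleComponent⟩
  have h1 : irreducibleComponent x ⊆ closure {y} :=
    hη.def.symm.le.trans (closure_minimal (Set.singleton_subset_iff.2 hy.mem_closure) isClosed_closure)
  have h2 := (irreducibleComponent_mem_irreducibleComponents x).2 isIrreducible_singleton.closure h1
  exact ((hη.specializes (h2 (subset_closure rfl))).antisymm hy).eq.symm

theorem finite_setOf_isGen [NoetherianSpace X] : {c : X | IsGen c}.Finite := by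
  refine (genericPoints.finite (α := X) NoetherianSpace.finite_irreducibleComponents).subset fun c hc => ?_
  refine ⟨isIrreducible_singleton.closure, fun T hT hle => ?_⟩
  obtain ⟨η, hη⟩ := QuasiSober.sober hT.closure isClosed_closure
  have := hc η (hη.specializes (subset_closure (hle (subset_closure rfl))))
  subst this
  exact subset_closure.trans hη.def.symm.le

theorem finite_of_forall_not_isGen [NoetherianSpace X] (hdim : topologicalKrullDim X ≤ 1) {Z : Set X}
    (hZ : IsClosed Z) (h : ∀ z ∈ Z, ¬ IsGen z) : Z.Finite := by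
  obtain ⟨T, hT, hirr, hK⟩ := NoetherianSpace.exists_finite_set_closeds_irreducible (⟨Z, hZ⟩ : Closeds X)
  refine (hT.biUnion (t := fun t : Closeds X => (t : Set X)) fun t ht => ?_).subset fun x hx => ?_
  · refine Set.Subsingleton.finite fun a ha b hb => ?_
    obtain ⟨η, hη⟩ := QuasiSober.sober (hirr t ht) t.isClosed
    have htZ : (t : Set X) ⊆ Z := fun y hy => (show t ≤ ⟨Z, hZ⟩ from hK ▸ le_sSup ht) hy
    have hle : ∀ d ∈ (t : Set X), d = η := fun d hd =>
      ((isClosed_singleton hdim (h η (htZ hη.mem))).closure_eq ▸ (hη.specializes hd).mem_closure :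
        d ∈ ({η} : Set X))
    rw [hle a ha, hle b hb]
  · have hx' : x ∈ ((sSup T : Closeds X) : Set X) := hK ▸ hx
    rw [Closeds.coe_sSup, Set.sUnion_image, (hT.isClosed_biUnion fun t _ => t.isClosed).closure_eq] at hx'
    exact hx'

theorem isOpen_compl_of_forall_not_isGen (hdim : topologicalKrullDim X ≤ 1) {F : Set X} (hF : F.Finite)
    (h : ∀ z ∈ F, ¬ IsGen z) : IsOpen Fᶜ := by
  rw [isOpen_compl_iff, ← Set.biUnion_of_singleton F]
  exact hF.isClosed_biUnion fun z hz => isClosed_singleton hdim (h z hz)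

/-- An affine open in which one point is separated from another by a function. -/
theorem exists_eval_ne_zero_eq_zero {U : X.Opens} (hU : IsAffineOpen U) {c y : X} (hc : c ∈ U) (hy : y ∈ U)
    (h : ¬ y ⤳ c) : ∃ f : Γ(X, U), X.evaluation U c hc f ≠ 0 ∧ X.evaluation U y hy f = 0 := by
  obtain ⟨O, hO, hcO, hyO⟩ : ∃ O : Set X, IsOpen O ∧ c ∈ O ∧ y ∉ O := by
    simpa only [specializes_iff_forall_open, not_forall, exists_prop] using h
  obtain ⟨f, hf, hcf⟩ := hU.exists_basicOpen_le (V := ⟨O, hO⟩) ⟨c, hcO⟩ hc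
  exact ⟨f, (X.evaluation_ne_zero_iff_mem_basicOpen c hc f).2 hcf,
    (X.evaluation_eq_zero_iff_notMem_basicOpen y hy f).2 fun hyf => hyO (hf hyf)⟩

/-- Every element of a residue field is a quotient of two values of functions on an affine. -/
theorem exists_eval_div {U : X.Opens} (hU : IsAffineOpen U) {c : X} (hc : c ∈ U) (a : X.residueField c) :
    ∃ p q : Γ(X, U), X.evaluation U c hc q ≠ 0 ∧
      a = X.evaluation U c hc p / X.evaluation U c hc q := by
  obtain ⟨x, rfl⟩ := X.residue_surjective c a
  letI := (X.presheaf.germ U c hc).hom.toAlgebra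
  haveI := hU.isLocalization_stalk ⟨c, hc⟩
  obtain ⟨p, q, rfl⟩ := IsLocalization.exists_mk'_eq (hU.primeIdealOf ⟨c, hc⟩).asIdeal.primeCompl x
  have hb : IsUnit (X.presheaf.germ U c hc q.1) := IsLocalization.map_units (X.presheaf.stalk c) q
  refine ⟨p, q, (hb.map (X.residue c).hom).ne_zero, ?_⟩
  rw [eq_div_iff (show X.evaluation U c hc q.1 ≠ 0 from (hb.map (X.residue c).hom).ne_zero)]
  have := congrArg (X.residue c).hom (IsLocalization.mk'_spec (X.presheaf.stalk c) p q)
  rw [map_mul] at this
  exact this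

theorem evaluation_res {U V : X.Opens} (h : U ≤ V) {c : X} (hc : c ∈ U) (f : Γ(X, V)) :
    X.evaluation U c hc (X.presheaf.map (homOfLE h).op f) = X.evaluation V c (h hc) f :=
  congrArg (X.residue c).hom (X.presheaf.germ_res_apply (homOfLE h) c hc f)

theorem map_map_eq {A B B' C : (X.Opens)ᵒᵖ} (f : A ⟶ B) (g : B ⟶ C) (f' : A ⟶ B') (g' : B' ⟶ C) (a : Γ(X, A.unop)) :
    (X.presheaf.map g).hom ((X.presheaf.map f).hom a) = (X.presheaf.map g').hom ((X.presheaf.map f').hom a) := by
  show (X.presheaf.map f ≫ X.presheaf.map g).hom a = (X.presheaf.map f' ≫ X.presheaf.map g').hom a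
  rw [← Functor.map_comp, ← Functor.map_comp, Subsingleton.elim (f ≫ g) (f' ≫ g')]

theorem map_map_self {A B : (X.Opens)ᵒᵖ} (f : A ⟶ B) (g : B ⟶ A) (a : Γ(X, A.unop)) :
    (X.presheaf.map g).hom ((X.presheaf.map f).hom a) = a :=
  (map_map_eq f g (𝟙 A) (𝟙 A) a).trans (by simp)

/-- For a separated scheme the functions on a meet of affines are generated by those on each. -/
theorem closure_res_eq_top [X.IsSeparated] {U V : X.Opens} (hU : IsAffineOpen U) (hV : IsAffineOpen V) :
    Subring.closure
      (Set.range (X.presheaf.map (homOfLE (inf_le_left : U ⊓ V ≤ U)).op).hom ∪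
        Set.range (X.presheaf.map (homOfLE (inf_le_right : U ⊓ V ≤ V)).op).hom) = ⊤ := by
  haveI : IsAffine (U : Scheme.{u}) := hU
  haveI : IsAffine (V : Scheme.{u}) := hV
  haveI : IsAffine ((U ⊓ V : X.Opens) : Scheme.{u}) := hU.inf hV
  let iU := X.homOfLE (inf_le_left : U ⊓ V ≤ U)
  let iV := X.homOfLE (inf_le_right : U ⊓ V ≤ V)
  let S : Subring Γ((U ⊓ V : X.Opens), ⊤) :=
    Subring.closure (Set.range iU.appTop.hom ∪ Set.range iV.appTop.hom)
  let p : ((U ⊓ V : X.Opens) : Scheme.{u}) ⟶ Spec (CommRingCat.of S) :=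
    ((U ⊓ V : X.Opens) : Scheme.{u}).toSpecΓ ≫ Spec.map (CommRingCat.ofHom S.subtype)
  have hfac : ∀ {T : Scheme.{u}} [IsAffine T] (i : ((U ⊓ V : X.Opens) : Scheme.{u}) ⟶ T)
      (h : ∀ a, i.appTop.hom a ∈ S),
      p ≫ Spec.map (CommRingCat.ofHom (i.appTop.hom.codRestrict S h)) ≫ T.isoSpec.inv = i := by
    intro T _ i h
    rw [Category.assoc, ← Spec.map_comp_assoc]
    have e : CommRingCat.ofHom (i.appTop.hom.codRestrict S h) ≫ CommRingCat.ofHom S.subtype = i.appTop := rfl
    rw [e, ← Scheme.toSpecΓ_naturality_assoc, ← Scheme.isoSpec_hom, Iso.hom_inv_id, Category.comp_id]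
  let qU := Spec.map (CommRingCat.ofHom (iU.appTop.hom.codRestrict S
    fun a => Subring.subset_closure (Or.inl ⟨a, rfl⟩))) ≫ (U : Scheme.{u}).isoSpec.inv
  let qV := Spec.map (CommRingCat.ofHom (iV.appTop.hom.codRestrict S
    fun a => Subring.subset_closure (Or.inr ⟨a, rfl⟩))) ≫ (V : Scheme.{u}).isoSpec.inv
  let e := (isPullback_opens_inf U V).isoPullback
  let m := e.hom ≫ pullback.mapDesc U.ι V.ι (terminal.from X)
  haveI : IsClosedImmersion m := inferInstance
  let q : Spec (CommRingCat.of S) ⟶ pullback (U.ι ≫ terminal.from X) (V.ι ≫ terminal.from X) :=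
    pullback.lift qU qV (terminal.hom_ext _ _)
  have hm : p ≫ q = m := by
    apply pullback.hom_ext
    · rw [Category.assoc, pullback.lift_fst, hfac iU]
      simp [m, e, pullback.mapDesc, iU]
    · rw [Category.assoc, pullback.lift_snd, hfac iV]
      simp [m, e, pullback.mapDesc, iV]
  haveI : IsClosedImmersion (p ≫ q) := by rw [hm]; infer_instance
  haveI : IsSeparated (pullback.fst (U.ι ≫ terminal.from X) (V.ι ≫ terminal.from X)) := inferInstance
  haveI : IsClosedImmersion p := IsClosedImmersion.of_comp p q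
  haveI : IsClosedImmersion (Spec.map (CommRingCat.ofHom S.subtype)) :=
    (MorphismProperty.cancel_left_of_respectsIso @IsClosedImmersion
      ((U ⊓ V : X.Opens) : Scheme.{u}).toSpecΓ _).1 ‹_›
  have hS : S = ⊤ := by
    refine eq_top_iff.2 fun z _ => ?_
    obtain ⟨w, hw⟩ := (IsClosedImmersion.isAffine_surjective_of_isAffine (f := Spec.map (CommRingCat.ofHom S.subtype))).2
      ((Scheme.ΓSpecIso _).inv z)
    have h1 := congrArg (Scheme.ΓSpecIso (CommRingCat.of Γ((U ⊓ V : X.Opens), ⊤))).hom hw
    have h2 := congrArg (fun φ => φ.hom w) (Scheme.ΓSpecIso_naturality (CommRingCat.ofHom S.subtype))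
    simp only [CommRingCat.hom_comp, RingHom.comp_apply, Iso.inv_hom_id_apply] at h1 h2
    exact (h2.symm.trans h1) ▸ ((Scheme.ΓSpecIso (CommRingCat.of S)).hom w).2
  let T := Subring.closure
    (Set.range (X.presheaf.map (homOfLE (inf_le_left : U ⊓ V ≤ U)).op).hom ∪
      Set.range (X.presheaf.map (homOfLE (inf_le_right : U ⊓ V ≤ V)).op).hom)
  have hle : S ≤ T.comap (U ⊓ V).topIso.hom.hom := by
    refine Subring.closure_le.2 ?_
    rintro z (⟨a, rfl⟩ | ⟨a, rfl⟩)
    · refine Subring.subset_closure (Or.inl ⟨U.topIso.hom a, ?_⟩)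
      show _ = (U ⊓ V).topIso.hom.hom ((X.homOfLE _).app ⊤ a)
      rw [Scheme.homOfLE_app]
      exact map_map_eq (X := X) _ _ _ _ _
    · refine Subring.subset_closure (Or.inr ⟨V.topIso.hom a, ?_⟩)
      show _ = (U ⊓ V).topIso.hom.hom ((X.homOfLE _).app ⊤ a)
      rw [Scheme.homOfLE_app]
      exact map_map_eq (X := X) _ _ _ _ _
  refine eq_top_iff.2 fun z _ => ?_
  have h3 := hle (hS ▸ trivial : (U ⊓ V).topIso.inv z ∈ S)
  rw [Subring.mem_comap] at h3
  rw [show (U ⊓ V).topIso.hom.hom ((U ⊓ V).topIso.inv z) = z from map_map_self _ _ z] at h3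
  exact h3

end Groth.Agent.DimOne
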