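import Groth.Agent.DimOne.Basic
import Groth.Agent.Lib.AmpleImmersion
import Groth.Agent.Boundary.CurveProj
import Groth.Agent.VarDim.Top

/-! Completions of one-dimensional schemes of finite type over a field. -/

noncomputable section

set_option linter.style.haveILetI false
set_option backward.isDefEq.respectTransparency false
set_option backward.isDefEq.respectTransparency.types false

universe u

open CategoryTheory CategoryTheory.Limits AlgebraicGeometry TopologicalSpace

namespace Groth.Agent.DimOne

theorem mem_range_of_isGen {Y : Scheme.{u}} [NoetherianSpace Y] {V : Set Y} (hV : IsOpen V) (hd : Dense V)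
    {η : Y} (hη : IsGen η) : η ∈ V := by
  let O : Set Y := (⋃ g ∈ {g : Y | IsGen g} \ {η}, closure ({g} : Set Y))ᶜ
  have hO : IsOpen O :=
    ((finite_setOf_isGen (X := Y)).sdiff.isClosed_biUnion fun g _ => isClosed_closure).isOpen_compl
  have hηO : η ∈ O := fun h => by
    obtain ⟨g, ⟨hg, hne⟩, hgη⟩ := Set.mem_iUnion₂.1 h
    exact hne (hη g (specializes_iff_mem_closure.2 hgη))
  obtain ⟨y, hyO, hyV⟩ := hd.inter_open_nonempty O hO ⟨η, hηO⟩
  obtain ⟨c, hc, hcy⟩ := exists_isGen_specializes y
  by_cases hce : c = η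
  · exact (hce ▸ hcy).mem_open hV hyV
  · exact absurd (Set.mem_iUnion₂.2 ⟨c, ⟨hc, hce⟩, hcy.mem_closure⟩) hyO

variable (k : Type u) [Field k] {X : Scheme.{u}}

/-- A dense open does not change the dimension of a scheme of finite type over a field. -/
theorem topologicalKrullDim_le_of_dense {Y : Scheme.{u}} [NoetherianSpace Y] (g : Y ⟶ Spec (CommRingCat.of k))
    [LocallyOfFiniteType g] (j : X ⟶ Y) [IsOpenImmersion j] (hd : Dense (Set.range j)) :
    topologicalKrullDim Y ≤ topologicalKrullDim X := by
  rw [VarDim.topologicalKrullDim_eq_iSup_deg g, VarDim.topologicalKrullDim_eq_iSup_deg (j ≫ g)]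
  refine iSup_le fun y => ?_
  obtain ⟨η, hη, hηy⟩ := exists_isGen_specializes y
  obtain ⟨x, rfl⟩ := mem_range_of_isGen j.isOpenEmbedding.isOpen_range hd hη
  refine le_iSup_of_le x ?_
  rw [VarDim.deg_comp g j x]
  exact_mod_cast VarDim.deg_le_of_specializes g hηy

/-- The structure of a completion: scheme-theoretically dense open in a projective scheme, with finite boundary
of closed points. -/
theorem exists_completion (f : X ⟶ Spec (CommRingCat.of k)) [LocallyOfFiniteType f] [IsSeparated f]
    [IsNoetherian X] (hdim : topologicalKrullDim X ≤ 1) {L : X.Modules} (hL : CohB1.IsAmple L) :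
    ∃ (d : ℕ) (Y : Scheme.{u}) (c : Y ⟶ CohB1.ProjSpace d k) (j : X ⟶ Y), IsClosedImmersion c ∧ IsOpenImmersion j ∧
      j ≫ c ≫ CohB1.ProjSpace.toSpec d k = f ∧ Dense (Set.range j) ∧ IsSchemeTheoreticallyDominant j ∧
      topologicalKrullDim Y ≤ 1 ∧ (Set.range j)ᶜ.Finite ∧ ∀ y ∈ (Set.range j)ᶜ, IsClosed ({y} : Set Y) := by
  obtain ⟨d, r, hr, hrf⟩ := AmpleEmbed.exists_immersion f hL
  haveI := hr
  haveI : IsProper (CohB1.ProjSpace.toSpec d k) := PnCoh.Chow.isProper_toSpec d k
  haveI : IsLocallyNoetherian (CohB1.ProjSpace d k) :=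
    LocallyOfFiniteType.isLocallyNoetherian (CohB1.ProjSpace.toSpec d k)
  haveI : QuasiCompact r := inferInstance
  let g : r.image ⟶ Spec (CommRingCat.of k) := r.imageι ≫ CohB1.ProjSpace.toSpec d k
  haveI : IsProper g := inferInstance
  haveI : IsNoetherian r.image := by
    haveI : IsLocallyNoetherian r.image := LocallyOfFiniteType.isLocallyNoetherian g
    haveI : CompactSpace r.image := QuasiCompact.compactSpace_of_compactSpace g
    exact {}
  have hfac : r.toImage ≫ g = f := by
    show r.toImage ≫ r.imageι ≫ _ = _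
    rw [r.toImage_imageι_assoc, hrf]
  have hd : Dense (Set.range r.toImage) := r.toImage.denseRange
  have hdimY : topologicalKrullDim r.image ≤ 1 :=
    (topologicalKrullDim_le_of_dense k g r.toImage hd).trans hdim
  have hng : ∀ y ∈ (Set.range r.toImage)ᶜ, ¬ IsGen y := fun y hy hg =>
    hy (mem_range_of_isGen r.toImage.isOpenEmbedding.isOpen_range hd hg)
  refine ⟨d, r.image, r.imageι, r.toImage, inferInstance, inferInstance, hfac, hd, ?_, hdimY,
    finite_of_forall_not_isGen hdimY r.toImage.isOpenEmbedding.isOpen_range.isClosed_compl hng,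
    fun y hy => isClosed_singleton hdimY (hng y hy)⟩
  rw [isSchemeTheoreticallyDominant_iff]
  refine Scheme.IdealSheafData.ext_of_iSup_eq_top
    (fun V : (CohB1.ProjSpace d k).affineOpens => (⟨r.imageι ⁻¹ᵁ V.1, V.2.preimage r.imageι⟩ : r.image.affineOpens)) ?_ ?_
  · rw [← Scheme.Hom.preimage_iSup, iSup_affineOpens_eq_top, Scheme.Hom.preimage_top]
  · intro V
    rw [Scheme.Hom.ker_apply, Scheme.IdealSheafData.ideal_bot]
    exact (RingHom.injective_iff_ker_eq_bot _).1 (r.toImage_app_injective V)

variable [X.Over (Spec (CommRingCat.of k))] [IsProper (X ↘ Spec (CommRingCat.of k))]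

include k in
/-- An invertible module with a section nonzero, and vanishing somewhere, on every integral curve is ample. -/
theorem isAmple_of_section (hdim : topologicalKrullDim X ≤ 1) {L : X.Modules} (hL : PicF.IsInvertible L)
    (s : Coh.structureModule X ⟶ L)
    (h : ∀ (Z : Scheme.{u}) (i : Z ⟶ X) [IsClosedImmersion i] [IsIntegral Z], topologicalKrullDim Z = 1 →
      i (genericPoint Z) ∈ CohB1.genLocus L s ∧ ∃ z, i z ∉ CohB1.genLocus L s) :
    CohB1.IsAmple L := by
  refine IntNum.isAmple_of_deg_pos k hdim hL fun Z i _ _ hZ => ?_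
  letI : Z.Over (Spec (CommRingCat.of k)) := ⟨i ≫ (X ↘ Spec (CommRingCat.of k))⟩
  haveI : IsProper (Z ↘ Spec (CommRingCat.of k)) :=
    show IsProper (i ≫ (X ↘ Spec (CommRingCat.of k))) from inferInstance
  obtain ⟨hgen, z, hz⟩ := h Z i hZ
  let e : Coh.structureModule Z ≅ (Scheme.Modules.pullback i).obj (Coh.structureModule X) := (CurveBC.unitIso i).symm
  let σ := e.hom ≫ (Scheme.Modules.pullback i).map s
  have hgl : CohB1.genLocus ((Scheme.Modules.pullback i).obj L) σ = i ⁻¹ᵁ CohB1.genLocus L s := by
    rw [InvX.genLocus_pullback i hL s e]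
  have hσ : σ ≠ 0 := fun h0 => by
    have h1 : genericPoint Z ∈ CohB1.genLocus ((Scheme.Modules.pullback i).obj L) σ := hgl.ge hgen
    obtain ⟨W, hW, hgW⟩ := InvX.mem_genLocus h1
    rw [h0] at hgW
    have h2 := (hgW W le_rfl).1
    have h3 : InvX.one (0 : Coh.structureModule Z ⟶ (Scheme.Modules.pullback i).obj L) = 0 := rfl
    haveI : Nonempty W := ⟨⟨_, hW⟩⟩
    exact one_ne_zero (@h2 (1 : Γ(Z, W)) 0 (by simp [h3]))
  have hLZ := PicClLib.isInvertible_pullback i hL
  obtain ⟨h1, h2⟩ := CurveDeg.deg_le_and_isIso k hZ.le CurveDeg.isInvertible_structureModule hLZ σ hσ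
  rw [CurveDeg.deg_structureModule] at h1 h2
  refine lt_of_le_of_ne h1 fun he => hz ?_
  haveI := h2 he
  show z ∈ i ⁻¹ᵁ CohB1.genLocus L s
  rw [← hgl]
  have htop : (⊤ : Z.Opens) ≤ CohB1.genLocus ((Scheme.Modules.pullback i).obj L) σ :=
    le_sSup (show IsIso ((Scheme.Modules.restrictFunctor (⊤ : Z.Opens).ι).map σ) from inferInstance)
  exact htop trivial

omit [X.Over (Spec (CommRingCat.of k))] [IsProper (X ↘ Spec (CommRingCat.of k))] in
/-- A one-dimensional separated scheme of finite type none of whose components is proper is affine. -/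
theorem isAffine_of_no_proper_component (f : X ⟶ Spec (CommRingCat.of k)) [LocallyOfFiniteType f] [IsSeparated f]
    [IsNoetherian X] (hdim : topologicalKrullDim X ≤ 1) {L₀ : X.Modules} (hL₀ : CohB1.IsAmple L₀)
    (h : ∀ (C : Set X) (hC : C ∈ irreducibleComponents (X : Type u)), topologicalKrullDim C = 1 →
      ¬ IsProper ((X.irreducibleComponentIdeal C hC).radical.subschemeι ≫ f)) :
    IsAffine X := by
  obtain ⟨d, Y, c, j, hc, hj, hfac, hd, -, hdimY, hfin, hcl⟩ := exists_completion k f hdim hL₀
  haveI := hc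
  haveI := hj
  haveI : IsProper (CohB1.ProjSpace.toSpec d k) := PnCoh.Chow.isProper_toSpec d k
  letI : Y.Over (Spec (CommRingCat.of k)) := ⟨c ≫ CohB1.ProjSpace.toSpec d k⟩
  haveI : IsProper (Y ↘ Spec (CommRingCat.of k)) :=
    show IsProper (c ≫ CohB1.ProjSpace.toSpec d k) from inferInstance
  haveI := CurveCohLib.isNoetherian_of_proper (k := k) (X := Y)
  let U : Y.Opens := ⟨Set.range j, j.isOpenEmbedding.isOpen_range⟩
  haveI : QuasiCompact U.ι := inferInstance
  have hdisc : DiscreteTopology ↥((U : Set Y)ᶜ) := by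
    haveI : Finite ↥((U : Set Y)ᶜ) := hfin.to_subtype
    haveI : T1Space ↥((U : Set Y)ᶜ) := ⟨fun ⟨x, hx⟩ => by
      rw [show ({⟨x, hx⟩} : Set ↥((U : Set Y)ᶜ)) = Subtype.val ⁻¹' {x} from by ext b; simp [Subtype.ext_iff]]
      exact (hcl x hx).preimage continuous_subtype_val⟩
    infer_instance
  obtain ⟨L, s, hL, hs⟩ := Boundary.exists_genLocus_eq U hdisc fun x _ =>
    ⟨inferInstance, (CurveCohLib.ringKrullDim_stalk_le_topologicalKrullDim x).trans hdimY⟩
  have hamp : CohB1.IsAmple L := by
    refine isAmple_of_section k hdimY hL s fun Z i _ _ hZ => ?_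
    have hsp : ∀ z : Z, i (genericPoint Z) ⤳ i z := fun z => (genericPoint_specializes z).map i.continuous
    obtain ⟨z, hz⟩ : ∃ z : Z, z ≠ genericPoint Z := by
      by_contra hall
      simp only [ne_eq, not_exists, not_not] at hall
      haveI : Subsingleton Z := ⟨fun a b => (hall a).trans (hall b).symm⟩
      have h0 := topologicalKrullDim_zero_of_discreteTopology Z
      rw [hZ] at h0
      exact absurd h0 (by decide)
    have hgY : IsGen (i (genericPoint Z)) := by
      by_contra hng
      exact hz (i.isClosedEmbedding.injective ((hsp z).mem_closed (isClosed_singleton hdimY hng) rfl))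
    have hgU : i (genericPoint Z) ∈ U := mem_range_of_isGen j.isOpenEmbedding.isOpen_range hd hgY
    refine ⟨hs.ge hgU, ?_⟩
    by_contra hall
    simp only [not_exists, not_not, hs] at hall
    obtain ⟨η, hη⟩ := hgU
    have hηgen : IsGen η := fun y hy => j.isOpenEmbedding.injective
      ((hgY _ (hη ▸ hy.map j.continuous)).trans hη.symm)
    let C : Set X := closure {η}
    have hC : C ∈ irreducibleComponents (X : Type u) := by
      refine ⟨isIrreducible_singleton.closure, fun T hT hle => ?_⟩
      obtain ⟨ξ, hξ⟩ := QuasiSober.sober hT.closure isClosed_closure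
      have := hηgen ξ (hξ.specializes (subset_closure (hle (subset_closure rfl))))
      subst this
      exact subset_closure.trans hξ.def.symm.le
    have hjC : j '' C = Set.range i := by
      refine Set.Subset.antisymm ?_ ?_
      · rintro _ ⟨x, hx, rfl⟩
        exact ((specializes_iff_mem_closure.2 hx).map j.continuous).mem_closed
          i.isClosedEmbedding.isClosed_range ⟨_, hη.symm⟩
      · rintro _ ⟨w, rfl⟩
        obtain ⟨x, hx⟩ := hall w
        exact ⟨x, specializes_iff_mem_closure.1 ((j.isOpenEmbedding.isInducing.specializes_iff).1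
          (hx ▸ hη ▸ hsp w)), hx⟩
    have hCdim : topologicalKrullDim C = 1 := by
      rw [← hZ]
      have e1 := IsHomeomorph.topologicalKrullDim_eq _
        (j.isOpenEmbedding.isEmbedding.homeomorphImage C).isHomeomorph
      have e2 := IsHomeomorph.topologicalKrullDim_eq _ i.isClosedEmbedding.isEmbedding.toHomeomorph.isHomeomorph
      rw [e1, hjC, e2]
    refine h C hC hCdim ?_
    let ι := (X.irreducibleComponentIdeal C hC).radical.subschemeι
    have hι : Set.range ι = C := by
      show Set.range (X.irreducibleComponentIdeal C hC).radical.subschemeι = C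
      rw [Scheme.IdealSheafData.range_subschemeι, Scheme.IdealSheafData.support_radical]
      rfl
    haveI : IsClosedImmersion (ι ≫ j) := .of_isPreimmersion _ (by
      have : Set.range (ι ≫ j) = Set.range i := by
        rw [show (⇑(ι ≫ j) : _ → _) = j ∘ ι from rfl, Set.range_comp, hι, hjC]
      rw [this]
      exact i.isClosedEmbedding.isClosed_range)
    show IsProper (ι ≫ f)
    rw [← hfac, ← Category.assoc]
    infer_instance
  have haff := AmpleEmbed.isAffineOpen_genLocus (Y ↘ Spec (CommRingCat.of k)) hamp s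
  rw [hs] at haff
  haveI : IsAffine (U : Scheme.{u}) := haff
  exact IsAffine.of_isIso (IsOpenImmersion.isoOfRangeEq j U.ι (by rw [Scheme.Opens.range_ι]; rfl)).hom

end Groth.Agent.DimOne
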