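import Groth.Agent.Boundary.Local
import Mathlib.RingTheory.Localization.Away.Basic
import Mathlib.RingTheory.Polynomial.Basic
import Mathlib.RingTheory.Ideal.MinimalPrime.Noetherian

/-! A power of a function on a punctured neighbourhood extends by zero when it vanishes at the point on every
branch. -/

noncomputable section

set_option linter.style.haveILetI false

universe u

open Polynomial

namespace Groth.Agent.DimOne

variable {A S : Type u} [CommRing A] [CommRing S] [Algebra A S]

/-- The shape of a product of linear polynomials reducing to monomials modulo an ideal. -/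
def Shape (q : Ideal A) (F : A[X]) : Prop :=
  ∃ (n : ℕ) (σ : A), σ ∉ q ∧ F.natDegree ≤ n ∧ F.map (Ideal.Quotient.mk q) = C (Ideal.Quotient.mk q σ) * X ^ n

theorem Shape.mul {q : Ideal A} [q.IsPrime] {F G : A[X]} (hF : Shape q F) (hG : Shape q G) : Shape q (F * G) := by
  obtain ⟨n, σ, hσ, hn, hF⟩ := hF
  obtain ⟨m, τ, hτ, hm, hG⟩ := hG
  refine ⟨n + m, σ * τ, fun h => (Ideal.IsPrime.mem_or_mem ‹_› h).elim hσ hτ,
    natDegree_mul_le.trans (add_le_add hn hm), ?_⟩
  rw [Polynomial.map_mul, hF, hG, map_mul, map_mul, pow_add]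
  ring

theorem Shape.one (q : Ideal A) [q.IsPrime] : Shape q (1 : A[X]) :=
  ⟨0, 1, fun h => Ideal.IsPrime.ne_top ‹_› ((Ideal.eq_top_iff_one _).2 h), by simp, by simp⟩

theorem Shape.X (q : Ideal A) [q.IsPrime] : Shape q (Polynomial.X : A[X]) :=
  ⟨1, 1, fun h => Ideal.IsPrime.ne_top ‹_› ((Ideal.eq_top_iff_one _).2 h), natDegree_X_le, by simp⟩

theorem Shape.linear {q : Ideal A} {s b : A} (hs : s ∉ q) (hb : b ∈ q) :
    Shape q (C s * Polynomial.X - C b) :=
  ⟨1, s, hs, (natDegree_sub_le _ _).trans (max_le (natDegree_C_mul_X_pow_le s 1 |>.trans' (by simp)) (by simp)), by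
    simp [Polynomial.map_sub, Ideal.Quotient.eq_zero_iff_mem.2 hb]⟩

theorem exists_mul_pow_eq (a : A) [IsLocalization.Away a S] [IsNoetherianRing A] (q : Ideal A) [q.IsPrime]
    (honly : ∀ P : Ideal A, P.IsPrime → P ≤ q → a ∈ P → q ≤ P) (z : S)
    (hz : ∀ P ∈ minimalPrimes S, ∃ s : A, s ∉ q ∧ ∃ b ∈ q, algebraMap A S s * z - algebraMap A S b ∈ P) :
    ∃ (t : A) (N : ℕ) (b : A), t ∉ q ∧ 0 < N ∧ algebraMap A S t * z ^ N = algebraMap A S (a * b) := by
  classical
  haveI : IsNoetherianRing S := IsLocalization.isNoetherianRing (Submonoid.powers a) S inferInstance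
  choose! s hs b hb hsb using hz
  let hfin := minimalPrimes.finite_of_isNoetherianRing S
  let F : A[X] := ∏ P ∈ hfin.toFinset, (C (s P) * X - C (b P))
  have hFs : Shape q F := by
    refine Finset.prod_induction _ (Shape q) (fun _ _ h1 h2 => h1.mul h2) (Shape.one q) fun P hP => ?_
    have hP' := hfin.mem_toFinset.1 hP
    exact Shape.linear (hs P hP') (hb P hP')
  have hnil : IsNilpotent (aeval z F) := by
    rw [← mem_nilradical]
    show _ ∈ (⊥ : Ideal S).radical
    rw [← Ideal.sInf_minimalPrimes]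
    refine Submodule.mem_sInf.2 fun P hP => ?_
    rw [map_prod]
    refine Ideal.prod_mem _ (hfin.mem_toFinset.2 hP) ?_
    simpa using hsb P hP
  obtain ⟨K, hK⟩ := hnil
  let G : A[X] := X * F ^ K
  have hGs : Shape q G := by
    refine (Shape.X q).mul ?_
    clear hK G
    induction K with
    | zero => simpa using Shape.one q
    | succ k ih => simpa [pow_succ] using ih.mul hFs
  have hG0 : aeval z G = 0 := by simp [G, hK]
  obtain ⟨n, σ, hσ, hn, hmap⟩ := hGs
  have hcn : G.coeff n ∉ q := fun h => hσ (by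
    have := congrArg (coeff · n) hmap
    simp only [coeff_map, coeff_C_mul_X_pow, if_pos] at this
    rw [Ideal.Quotient.eq_zero_iff_mem.2 h] at this
    exact Ideal.Quotient.eq_zero_iff_mem.1 this.symm)
  have hci : ∀ i, i ≠ n → G.coeff i ∈ q := fun i hi => by
    have := congrArg (coeff · i) hmap
    simp only [coeff_map, coeff_C_mul_X_pow, if_neg hi] at this
    exact Ideal.Quotient.eq_zero_iff_mem.1 this
  have hn0 : 0 < n := Nat.pos_of_ne_zero fun h0 => hcn (by simp [h0, G])
  let c := G.coeff n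
  let ψ : S := algebraMap A S c * z
  have hψ : ψ ^ n + ∑ i ∈ Finset.range n, algebraMap A S (G.coeff i * c ^ (n - 1 - i)) * ψ ^ i = 0 := by
    have h1 := hG0
    rw [aeval_eq_sum_range' (Nat.lt_succ_of_le hn), Finset.sum_range_succ] at h1
    have h2 := congrArg (algebraMap A S (c ^ (n - 1)) * ·) h1
    simp only [mul_zero, mul_add, Finset.mul_sum] at h2
    rw [← h2, add_comm]
    congr 1
    · refine Finset.sum_congr rfl fun i hi => ?_
      rw [Algebra.smul_def, map_mul, map_pow, map_pow, mul_pow]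
      have hi' : i < n := Finset.mem_range.1 hi
      rw [show n - 1 = (n - 1 - i) + i by omega, pow_add]
      rw [show n - 1 - i + i - i = n - 1 - i by omega]
      ring
    · rw [Algebra.smul_def, map_pow, mul_pow, ← mul_assoc, ← pow_succ, Nat.sub_add_cancel hn0]
  let M : Submodule A S := Submodule.span A (Set.range fun i : Fin n => ψ ^ (i : ℕ))
  have hrec : ∀ k, n ≤ k → ψ ^ k =
      -∑ i ∈ Finset.range n, (G.coeff i * c ^ (n - 1 - i)) • ψ ^ (k - n + i) := fun k hk => by
    obtain ⟨l, rfl⟩ := Nat.exists_eq_add_of_le hk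
    have h1 := congrArg (ψ ^ l * ·) hψ
    simp only [mul_zero, mul_add, Finset.mul_sum] at h1
    rw [eq_neg_iff_add_eq_zero, add_comm n l, pow_add, ← h1]
    congr 1
    refine Finset.sum_congr rfl fun i _ => ?_
    rw [Algebra.smul_def, show l + n - n + i = l + i by omega, pow_add]
    ring
  have hM : ∀ k, ψ ^ k ∈ M := fun k => by
    induction k using Nat.strong_induction_on with
    | _ k ih =>
      by_cases hk : k < n
      · exact Submodule.subset_span ⟨⟨k, hk⟩, rfl⟩
      · rw [hrec k (not_lt.1 hk)]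
        exact M.neg_mem (M.sum_mem fun i hi => M.smul_mem _ (ih _ (by
          have := Finset.mem_range.1 hi; omega)))
  have hqM : ∀ j k, n * j ≤ k → ψ ^ k ∈ q ^ j • M := fun j => by
    induction j with
    | zero =>
      intro k _
      rw [pow_zero, Ideal.one_eq_top, Submodule.top_smul]
      exact hM k
    | succ j ih =>
      intro k hk
      rw [Nat.mul_succ] at hk
      rw [hrec k (by omega), pow_succ', Submodule.mul_smul]
      refine Submodule.neg_mem _ (Submodule.sum_mem _ fun i hi => Submodule.smul_mem_smul ?_ (ih _ (by omega)))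
      exact Ideal.mul_mem_right _ _ (hci i (Finset.mem_range.1 hi).ne)
  -- clearing denominators of the span
  choose e d hed using fun i : Fin n => IsLocalization.Away.surj a (ψ ^ (i : ℕ))
  let cc := Finset.univ.sup e
  have hM' : ∀ x ∈ M, ∃ y, algebraMap A S (a ^ cc) * x = algebraMap A S y := fun x hx => by
    induction hx using Submodule.span_induction with
    | mem x hx =>
      obtain ⟨i, rfl⟩ := hx
      refine ⟨a ^ (cc - e i) * d i, ?_⟩
      rw [map_mul, ← hed i, map_pow, map_pow, ← mul_assoc, mul_comm _ (ψ ^ (i : ℕ)), mul_comm _ (ψ ^ (i : ℕ)),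
        mul_assoc, ← pow_add, Nat.sub_add_cancel (Finset.le_sup (Finset.mem_univ i))]
    | zero => exact ⟨0, by simp⟩
    | add x y _ _ hx hy =>
      obtain ⟨u, hu⟩ := hx
      obtain ⟨v, hv⟩ := hy
      exact ⟨u + v, by rw [mul_add, hu, hv, map_add]⟩
    | smul r x _ hx =>
      obtain ⟨u, hu⟩ := hx
      exact ⟨r * u, by rw [Algebra.smul_def, map_mul, ← hu]; ring⟩
  -- a power of the prime inside the power of the parameter
  have hpow : ∃ (τ : A) (j : ℕ), τ ∉ q ∧ ∀ r ∈ q ^ j, τ * r ∈ Ideal.span {a ^ (cc + 1)} := by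
    obtain ⟨g, hg⟩ := (IsNoetherian.noetherian q : q.FG)
    choose! τ m hτ hm using fun x (hx : x ∈ g) => Boundary.exists_mul_pow_mem q (Ideal.span {a ^ (cc + 1)}) x
      fun Q hQ hQq hIQ => honly Q hQ hQq
        (hQ.mem_of_pow_mem _ (hIQ (Ideal.mem_span_singleton_self _))) (hg ▸ Ideal.subset_span hx)
    let τ' := ∏ x ∈ g, τ x
    let J : Ideal A := Submodule.comap (LinearMap.mulLeft A τ') (Ideal.span {a ^ (cc + 1)})
    have hJ : q ≤ J.radical := by
      conv_lhs => rw [← hg]
      refine Ideal.span_le.2 fun x hx => ⟨m x, ?_⟩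
      show τ' * x ^ m x ∈ Ideal.span {a ^ (cc + 1)}
      rw [show τ' = (∏ y ∈ g.erase x, τ y) * τ x from (Finset.prod_erase_mul g τ hx).symm, mul_assoc]
      exact Ideal.mul_mem_left _ _ (hm x hx)
    obtain ⟨j, hj⟩ := Ideal.exists_pow_le_of_le_radical_of_fg hJ (IsNoetherian.noetherian q)
    refine ⟨τ', j, fun h => ?_, fun r hr => hj hr⟩
    obtain ⟨x, hx, hxq⟩ := (Ideal.IsPrime.prod_mem_iff).1 h
    exact hτ x hx hxq
  obtain ⟨τ, j, hτ, hj⟩ := hpow
  have key : ∀ x ∈ q ^ j • M, ∃ y, algebraMap A S τ * x = algebraMap A S (a * y) := fun x hx => by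
    refine Submodule.smul_induction_on hx (fun r hr x hx => ?_) fun x y hx hy => ?_
    · obtain ⟨r', hr'⟩ := Ideal.mem_span_singleton'.1 (hj r hr)
      obtain ⟨y, hy⟩ := hM' x hx
      refine ⟨r' * y, ?_⟩
      rw [Algebra.smul_def, ← mul_assoc, ← map_mul, ← hr', map_mul, map_mul, map_mul, ← hy, pow_succ, map_mul]
      ring
    · obtain ⟨u, hu⟩ := hx
      obtain ⟨v, hv⟩ := hy
      exact ⟨u + v, by rw [mul_add, hu, hv, mul_add, map_add]⟩
  obtain ⟨y, hy⟩ := key _ (hqM j (n * (j + 1)) (Nat.mul_le_mul_left n (Nat.le_succ j)))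
  refine ⟨τ * c ^ (n * (j + 1)), n * (j + 1), y, fun h => ?_, Nat.mul_pos hn0 (Nat.succ_pos j), ?_⟩
  · exact (Ideal.IsPrime.mem_or_mem ‹_› h).elim hτ fun h => hcn (Ideal.IsPrime.mem_of_pow_mem ‹_› _ h)
  · rw [← hy, map_mul, map_pow, mul_assoc, ← mul_pow]

end Groth.Agent.DimOne
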