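import Groth.Agent.DimOne.Pole
import Groth.Agent.DimOne.Extend
import Groth.Agent.AmpleX.Pow
import Groth.Agent.H23.CocycleMod
import Groth.Agent.InvX.GenLocus
import Groth.Agent.Lib.CurveTensor

/-! A Noetherian separated scheme of dimension at most one has an ample invertible module. -/

noncomputable section

set_option linter.style.haveILetI false
set_option backward.isDefEq.respectTransparency false
set_option backward.isDefEq.respectTransparency.types false

universe u

open CategoryTheory CategoryTheory.Limits AlgebraicGeometry TopologicalSpace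

namespace Groth.Agent.DimOne

open Groth.Agent.AModX

variable {X : Scheme.{u}}

theorem discreteTopology_of_finite (hdim : topologicalKrullDim X ≤ 1) {F : Set X} (hF : F.Finite)
    (h : ∀ z ∈ F, ¬ IsGen z) : DiscreteTopology ↥F := by
  haveI : Finite ↥F := hF.to_subtype
  haveI : T1Space ↥F := ⟨fun ⟨x, hx⟩ => by
    rw [show ({⟨x, hx⟩} : Set ↥F) = Subtype.val ⁻¹' {x} from by ext b; simp [Subtype.ext_iff]]
    exact (isClosed_singleton hdim (h x hx)).preimage continuous_subtype_val⟩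
  infer_instance

theorem isAffineOpen_of_le [IsNoetherian X] (hdim : topologicalKrullDim X ≤ 1) {W V : X.Opens}
    (hV : IsAffineOpen V) (h : W ≤ V) : IsAffineOpen W := by
  haveI : IsAffine (V : Scheme.{u}) := hV
  haveI : NoetherianSpace (V : Scheme.{u}) := V.ι.isOpenEmbedding.isEmbedding.isInducing.noetherianSpace
  have h1 := S1607.result (V : Scheme.{u})
    (fun x => ⟨inferInstance, (CurveCohLib.ringKrullDim_stalk_le_topologicalKrullDim x).trans
      ((V.ι.isOpenEmbedding.isEmbedding.isInducing.topologicalKrullDim_le).trans hdim)⟩)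
    (V.ι ⁻¹ᵁ W) (NoetherianSpace.isCompact _)
  have := h1.image_of_isOpenImmersion V.ι
  rwa [Scheme.Hom.image_preimage_eq_opensRange_inf, Scheme.Opens.opensRange_ι, inf_eq_right.2 h] at this

theorem evaluation_resR {U V : X.Opens} (h : U ≤ V) {c : X} (hc : c ∈ U) (f : Γ(X, V)) :
    X.evaluation U c hc (resR h f) = X.evaluation V c (h hc) f := evaluation_res h hc f

theorem isUnit_of_forall_mem_basicOpen {V : X.Opens} (a : Γ(X, V)) (h : V ≤ X.basicOpen a) : IsUnit a := by
  have := isUnit_resR le_rfl a h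
  rwa [resR_self] at this

/-- The inverse of a function with poles extends by zero near a boundary point, after a power. -/
theorem exists_local_extension [X.IsSeparated] [IsNoetherian X] {U : X.Opens} (G : Γ(X, U))
    (hgen : ∀ (c : X), IsGen c → c ∈ U)
    {d : X} (hd : d ∉ U)
    (hpole : ∀ (c : X) (hc : IsGen c) (h : c ⤳ d),
      ∃ b ∈ IsLocalRing.maximalIdeal (X.presheaf.stalk d), toRes h b * X.evaluation U c (hgen c hc) G = 1)
    {V : X.Opens} (hV : IsAffineOpen V) (hdV : d ∈ V) (a : Γ(X, V)) (ha : X.basicOpen a = U ⊓ V)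
    (honly : ∀ y ∈ V, y ∉ U → y = d) (hGV : U ⊓ V ≤ X.basicOpen G) :
    ∃ (N : ℕ) (V' : X.Opens) (_ : V' ≤ V) (hd' : d ∈ V') (ζ : Γ(X, V')), 0 < N ∧
      X.evaluation V' d hd' ζ = 0 ∧
      ∀ (O : X.Opens) (hO : O ≤ V') (hOU : O ≤ U), resR hO ζ * resR hOU (G ^ N) = 1 := by
  classical
  let B := X.basicOpen a
  have hBV : B ≤ V := X.basicOpen_le a
  have hBU : B ≤ U := ha.le.trans inf_le_left
  have hBG : B ≤ X.basicOpen G := ha.le.trans hGV
  obtain ⟨w, hw⟩ := (isUnit_resR hBU G hBG).exists_right_inv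
  letI : Algebra Γ(X, V) Γ(X, B) := (X.presheaf.map (homOfLE hBV).op).hom.toAlgebra
  haveI : IsLocalization.Away a Γ(X, B) := hV.isLocalization_basicOpen a
  haveI : IsNoetherianRing Γ(X, V) := IsLocallyNoetherian.component_noetherian ⟨V, hV⟩
  have hdS := hdV
  let q := (hV.primeIdealOf ⟨d, hdV⟩).asIdeal
  have hq : ∀ f : Γ(X, V), f ∈ q ↔ X.evaluation V d hdV f = 0 := fun f => by
    rw [X.evaluation_eq_zero_iff_notMem_basicOpen, QCoh.mem_basicOpen_iff_notMem hV hdV, not_not]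
  have hpt : ∀ {O : X.Opens} (hO : IsAffineOpen O) (P : PrimeSpectrum Γ(X, O)),
      ∃ hy : hO.fromSpec P ∈ O, hO.primeIdealOf ⟨_, hy⟩ = P := fun hO P =>
    ⟨hO.range_fromSpec.le ⟨P, rfl⟩, hO.fromSpec.isOpenEmbedding.injective (hO.fromSpec_primeIdealOf _)⟩
  have honly' : ∀ P : Ideal Γ(X, V), P.IsPrime → P ≤ q → a ∈ P → q ≤ P := by
    intro P hP _ haP
    obtain ⟨hy, hyP⟩ := hpt hV ⟨P, hP⟩
    have hnU : hV.fromSpec ⟨P, hP⟩ ∉ U := fun hU' => by
      have h1 : hV.fromSpec ⟨P, hP⟩ ∈ X.basicOpen a := ha.ge ⟨hU', hy⟩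
      exact (QCoh.mem_basicOpen_iff_notMem hV hy a).1 h1 (by rw [hyP]; exact haP)
    have he : (⟨_, hy⟩ : V) = ⟨d, hdV⟩ := Subtype.ext (honly _ hy hnU)
    exact le_of_eq (congrArg PrimeSpectrum.asIdeal ((congrArg hV.primeIdealOf he).symm.trans hyP))
  have hBaff : IsAffineOpen B := hV.basicOpen a
  have hz : ∀ P ∈ minimalPrimes Γ(X, B), ∃ s : Γ(X, V), s ∉ q ∧ ∃ b ∈ q,
      algebraMap Γ(X, V) Γ(X, B) s * w - algebraMap Γ(X, V) Γ(X, B) b ∈ P := by
    intro P hP
    haveI := hP.1.1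
    obtain ⟨hy, hyP⟩ := hpt hBaff ⟨P, inferInstance⟩
    set y := hBaff.fromSpec ⟨P, inferInstance⟩ with hydef
    have hP' : ∀ f : Γ(X, B), f ∈ P ↔ X.evaluation B y hy f = 0 := fun f => by
      rw [X.evaluation_eq_zero_iff_notMem_basicOpen, QCoh.mem_basicOpen_iff_notMem hBaff hy, not_not, hyP]
    have hgy : IsGen y := by
      intro y' hy'
      have hy'B : y' ∈ B := hy'.mem_open B.2 hy
      obtain ⟨Q, hQ⟩ : ∃ Q : PrimeSpectrum Γ(X, B), hBaff.fromSpec Q = y' := hBaff.range_fromSpec.ge hy'B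
      have hle : Q ≤ (⟨P, inferInstance⟩ : PrimeSpectrum Γ(X, B)) :=
        (PrimeSpectrum.le_iff_specializes _ _).2 (hBaff.fromSpec.isOpenEmbedding.isInducing.specializes_iff.1 (hQ ▸ hy'))
      rw [← hQ, PrimeSpectrum.ext (le_antisymm hle (hP.2 ⟨Q.2, bot_le⟩ hle)), hydef]
    have hev : ∀ f : Γ(X, V), X.evaluation B y hy (algebraMap Γ(X, V) Γ(X, B) f) = X.evaluation V y (hBV hy) f :=
      fun f => evaluation_res hBV hy f
    by_cases hyd : y ⤳ d
    · obtain ⟨b₀, hb₀, hb₀G⟩ := hpole y hgy hyd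
      letI : Algebra Γ(X, V) (X.presheaf.stalk d) := X.presheaf.algebra_section_stalk (⟨d, hdV⟩ : V)
      haveI : IsLocalization.AtPrime (X.presheaf.stalk d) q := hV.isLocalization_stalk ⟨d, hdV⟩
      obtain ⟨⟨b, s⟩, hbs⟩ := IsLocalization.surj q.primeCompl b₀
      change b₀ * X.presheaf.germ V d hdV s.1 = X.presheaf.germ V d hdV b at hbs
      refine ⟨s.1, s.2, b, (hq b).2 ?_, (hP' _).2 ?_⟩
      · show X.residue d (X.presheaf.germ V d hdV b) = 0
        rw [← hbs, map_mul, show X.residue d b₀ = 0 from Ideal.Quotient.eq_zero_iff_mem.2 hb₀, zero_mul]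
      · have h1 := congrArg (toRes hyd) hbs
        rw [map_mul, toRes_germ, toRes_germ] at h1
        have h2 := congrArg (X.evaluation B y hy) hw
        rw [map_mul, map_one, evaluation_resR] at h2
        rw [map_sub, map_mul, hev, hev, sub_eq_zero, ← h1, mul_comm]
        congr 1
        exact mul_left_cancel₀ (left_ne_zero_of_mul_eq_one h2) (h2.trans (by rw [mul_comm]; exact hb₀G.symm))
    · obtain ⟨s, hs, hsy⟩ := exists_eval_ne_zero_eq_zero hV hdV (hBV hy) hyd
      refine ⟨s, fun h => hs ((hq s).1 h), 0, Ideal.zero_mem _, (hP' _).2 ?_⟩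
      rw [map_zero, sub_zero, map_mul, hev, hsy, zero_mul]
  obtain ⟨t, N, b, ht, hN, hzb⟩ := exists_mul_pow_eq (S := Γ(X, B)) a q honly' w hz
  let V' := X.basicOpen t
  have hV'V : V' ≤ V := X.basicOpen_le t
  have hdV' : d ∈ V' := (X.evaluation_ne_zero_iff_mem_basicOpen d hdV t).1 fun h => ht ((hq t).2 h)
  obtain ⟨ti, hti⟩ := (isUnit_resR hV'V t le_rfl).exists_right_inv
  refine ⟨N, V', hV'V, hdV', ti * resR hV'V (a * b), hN, ?_, fun O hO hOU => ?_⟩
  · rw [map_mul, evaluation_resR, map_mul, show X.evaluation V d hdV a = 0 from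
      (X.evaluation_eq_zero_iff_notMem_basicOpen d hdV a).2 fun h => hd (ha.le h).1, zero_mul, mul_zero]
  · have hOB : O ≤ B := fun y hy => ha.ge ⟨hOU hy, hV'V (hO hy)⟩
    have h1 := congrArg (resR hOB) hzb
    rw [map_mul, map_pow, show algebraMap Γ(X, V) Γ(X, B) t = resR hBV t from rfl,
      show algebraMap Γ(X, V) Γ(X, B) (a * b) = resR hBV (a * b) from rfl, resR_resR, resR_resR] at h1
    have h2 := congrArg (resR hO) hti
    rw [map_mul, map_one, resR_resR] at h2
    have h3 := congrArg (resR hOB) hw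
    rw [map_mul, map_one, resR_resR] at h3
    rw [map_mul, resR_resR, ← h1, ← mul_assoc, mul_comm (resR hO ti), h2, one_mul, map_pow, ← mul_pow,
      mul_comm, h3, one_pow]

/-- A common power extends by zero over the whole boundary. -/
theorem exists_boundary_function [X.IsSeparated] [IsNoetherian X] (hdim : topologicalKrullDim X ≤ 1)
    {U : X.Opens} (hgen : ∀ (c : X), IsGen c → c ∈ U) (G : Γ(X, U))
    (hpole : ∀ (c : X) (hc : IsGen c) (d : X) (h : c ⤳ d), d ∉ U →
      ∃ b ∈ IsLocalRing.maximalIdeal (X.presheaf.stalk d), toRes h b * X.evaluation U c (hgen c hc) G = 1)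
    {W : X.Opens} (hW : IsAffineOpen W) (hUW : U ⊓ W = X.basicOpen G) (hcov : ∀ y, y ∉ U → y ∈ W) :
    ∃ (M : ℕ) (z : Γ(X, W)), 0 < M ∧ X.basicOpen z = U ⊓ W ∧
      resR (inf_le_right : U ⊓ W ≤ W) z * resR (inf_le_left : U ⊓ W ≤ U) (G ^ M) = 1 := by
  classical
  have hDgen : ∀ d ∈ (U : Set X)ᶜ, ¬ IsGen d := fun d hd hg => hd (hgen d hg)
  have hDfin : ((U : Set X)ᶜ).Finite := finite_of_forall_not_isGen hdim U.2.isClosed_compl hDgen
  let D := {d : X // d ∉ U}
  haveI : Finite D := hDfin.to_subtype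
  haveI := Fintype.ofFinite D
  have hloc : ∀ d : D, ∃ (N : ℕ) (V' : X.Opens) (_ : d.1 ∈ V') (ζ : Γ(X, V')), 0 < N ∧ V' ≤ W ∧
      (∀ y ∈ V', y ∉ U → y = d.1) ∧ (∀ h : d.1 ∈ V', X.evaluation V' d.1 h ζ = 0) ∧
      ∀ (O : X.Opens) (hO : O ≤ V') (hOU : O ≤ U), resR hO ζ * resR hOU (G ^ N) = 1 := fun d => by
    obtain ⟨V₁, a₁, hV₁, hdV₁, ha₁, honly₁⟩ := Boundary.exists_local_equation U
      (discreteTopology_of_finite hdim hDfin hDgen) d.2
      ⟨inferInstance, (CurveCohLib.ringKrullDim_stalk_le_topologicalKrullDim d.1).trans hdim⟩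
    have hle : V₁ ⊓ W ≤ V₁ := inf_le_left
    obtain ⟨N, V', hV'le, hdV', ζ, hN, hζ, hrel⟩ := exists_local_extension G hgen d.2
      (fun c hc h => hpole c hc d.1 h d.2) (hV₁.inf hW) ⟨hdV₁, hcov _ d.2⟩ (resR hle a₁)
      (by
        show X.basicOpen (X.presheaf.map (homOfLE hle).op a₁) = _
        rw [Scheme.basicOpen_res, ha₁]
        ext y
        simp only [Opens.coe_inf, Set.mem_inter_iff, SetLike.mem_coe]
        tauto)
      (fun y hy hyU => honly₁ y hy.1 hyU) (fun y hy => hUW.le ⟨hy.1, hy.2.2⟩)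
    exact ⟨N, V', hdV', ζ, hN, hV'le.trans inf_le_right, fun y hy hyU => honly₁ y (hV'le hy).1 hyU,
      fun _ => hζ, hrel⟩
  choose N V' hdV' ζ hN hV'W honly hζ hrel using hloc
  let M := ∏ d, N d
  have hM : 0 < M := Finset.prod_pos fun d _ => hN d
  obtain ⟨gi, hgi⟩ := ((isUnit_resR (inf_le_left : U ⊓ W ≤ U) G hUW.le).pow M).exists_left_inv
  let O : Option D → X.Opens := fun i => i.elim (U ⊓ W) V'
  let sf : ∀ i, Γ(X, O i) := fun i => match i with
    | none => gi
    | some d => ζ d ^ (M / N d)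
  have hOW : ∀ i, O i ≤ W := fun i => match i with
    | none => inf_le_right
    | some d => hV'W d
  have hkey : ∀ (i : Option D) (T : X.Opens) (hi : T ≤ O i) (hT : T ≤ U),
      resR hi (sf i) * resR hT (G ^ M) = 1 := fun i T hi hT => match i with
    | none => by
      have h1 := congrArg (resR (le_inf hT (hi.trans inf_le_right) : T ≤ U ⊓ W)) hgi
      rw [map_mul, map_one, ← map_pow, resR_resR] at h1
      exact h1
    | some d => by
      show resR hi (ζ d ^ (M / N d)) * _ = 1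
      have hdvd : N d * (M / N d) = M := Nat.mul_div_cancel' (Finset.dvd_prod_of_mem _ (Finset.mem_univ d))
      rw [show resR hT (G ^ M) = resR hT (G ^ N d) ^ (M / N d) by rw [← map_pow, ← pow_mul, hdvd], map_pow]
      exact (mul_pow _ _ _).symm.trans ((congrArg (· ^ (M / N d)) (hrel d T hi hT)).trans (one_pow _))
  obtain ⟨z, hz, -⟩ := TopCat.Sheaf.existsUnique_gluing' X.sheaf O W (fun i => homOfLE (hOW i))
    (fun y hy => by
      by_cases hyU : y ∈ U
      · exact Opens.mem_iSup.2 ⟨none, hyU, hy⟩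
      · exact Opens.mem_iSup.2 ⟨some ⟨y, hyU⟩, hdV' _⟩)
    sf fun i j => by
      show resR (inf_le_left : O i ⊓ O j ≤ O i) (sf i) = resR (inf_le_right : O i ⊓ O j ≤ O j) (sf j)
      by_cases hij : i = j
      · subst hij; rfl
      have hT : O i ⊓ O j ≤ U := fun y hy => by
        by_contra hyU
        match i, j, hy with
        | none, _, hy => exact hyU hy.1.1
        | some _, none, hy => exact hyU hy.2.1
        | some d, some d', hy =>
          exact hij (congrArg some (Subtype.ext ((honly d y hy.1 hyU).symm.trans (honly d' y hy.2 hyU))))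
      have h1 := hkey i _ inf_le_left hT
      have h2 := hkey j _ inf_le_right hT
      calc resR (inf_le_left : O i ⊓ O j ≤ O i) (sf i)
          = resR inf_le_left (sf i) * (resR (inf_le_right : O i ⊓ O j ≤ O j) (sf j) * resR hT (G ^ M)) := by
            rw [h2, mul_one]
        _ = _ := by rw [mul_left_comm, h1, mul_one]
  have hz' : ∀ i, resR (hOW i) z = sf i := hz
  refine ⟨M, z, hM, ?_, ?_⟩
  · refine Opens.ext (Set.ext fun y => ⟨fun hy => ⟨?_, X.basicOpen_le z hy⟩, fun hy => ?_⟩)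
    swap
    · have h1 := congrArg (X.evaluation (U ⊓ W) y hy) (hkey none _ le_rfl inf_le_left)
      rw [resR_self, map_mul, map_one, ← hz' none] at h1
      refine (X.evaluation_ne_zero_iff_mem_basicOpen y hy.2 z).1 fun h0 => ?_
      rw [show X.evaluation (U ⊓ W) y hy (resR (hOW none) z) = 0 from (evaluation_res _ hy z).trans h0, zero_mul] at h1
      exact zero_ne_one h1
    by_contra hyU
    refine (X.evaluation_ne_zero_iff_mem_basicOpen y (X.basicOpen_le z hy) z).2 hy ?_
    have h1 : X.evaluation (V' ⟨y, hyU⟩) y (hdV' ⟨y, hyU⟩) (sf (some ⟨y, hyU⟩)) = 0 := by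
      show X.evaluation _ y _ (ζ _ ^ _) = 0
      rw [map_pow, hζ ⟨y, hyU⟩, zero_pow]
      exact (Nat.div_pos (Nat.le_of_dvd hM (Finset.dvd_prod_of_mem _ (Finset.mem_univ _))) (hN _)).ne'
    rw [← hz' (some ⟨y, hyU⟩)] at h1
    exact (evaluation_res (hOW (some ⟨y, hyU⟩)) (hdV' ⟨y, hyU⟩) z).symm.trans h1
  · have h1 := hkey none _ le_rfl inf_le_left
    rw [resR_self, ← hz' none] at h1
    exact h1

/-- A Noetherian separated scheme of dimension at most one has an ample invertible module, with a section whose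
generating locus is a given affine open containing the generic points. -/
theorem exists_isAmple_section [X.IsSeparated] [IsNoetherian X] (hdim : topologicalKrullDim X ≤ 1)
    {U : X.Opens} (hU : IsAffineOpen U) (hgenU : ∀ c : X, IsGen c → c ∈ U) :
    ∃ (L : X.Modules) (s : Coh.structureModule X ⟶ L), CohB1.IsAmple L ∧ CohB1.genLocus L s = U := by
  classical
  have hDgen : ∀ d ∈ (U : Set X)ᶜ, ¬ IsGen d := fun d hd hg => hd (hgenU d hg)
  obtain ⟨V, hV, hVT⟩ := exists_affine_containing hdim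
    ((finite_of_forall_not_isGen hdim U.2.isClosed_compl hDgen).union (finite_setOf_isGen (X := X))).toFinset
  have hgenV : ∀ c : X, IsGen c → c ∈ V := fun c hc => hVT c (by simp [hc])
  obtain ⟨G, hG0, hGV, hpole⟩ := exists_pole hdim hU hgenU hgenV
  let F : Set X := (U : Set X) \ X.basicOpen G
  have hFgen : ∀ y ∈ F, ¬ IsGen y := fun y hy hg =>
    hy.2 ((X.evaluation_ne_zero_iff_mem_basicOpen y _ G).1 (hG0 y hg))
  have hFfin : F.Finite := (finite_of_forall_not_isGen hdim (X.basicOpen G).2.isClosed_compl fun y hy hg =>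
    hy ((X.evaluation_ne_zero_iff_mem_basicOpen y _ G).1 (hG0 y hg))).subset fun y hy => hy.2
  let W : X.Opens := ⟨Fᶜ, isOpen_compl_of_forall_not_isGen hdim hFfin hFgen⟩
  have hUW : U ⊓ W = X.basicOpen G :=
    le_antisymm (fun y hy => by_contra fun h => hy.2 ⟨hy.1, h⟩) fun y hy => ⟨X.basicOpen_le G hy, fun h => h.2 hy⟩
  have hcov : ∀ y, y ∉ U → y ∈ W := fun y hy h => hy h.1
  have hWV : W ≤ V := fun y hy => by
    by_contra hyV
    by_cases hyU : y ∈ U
    · exact hy ⟨hyU, (X.evaluation_eq_zero_iff_notMem_basicOpen y hyU G).1 (hGV y hyU hyV)⟩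
    · exact hyV (hVT y (by simp [hyU]))
  have hW : IsAffineOpen W := isAffineOpen_of_le hdim hV hWV
  obtain ⟨M, z, hM, hzlocus, hrel⟩ := exists_boundary_function hdim hgenU G hpole hW hUW hcov
  let O : ULift.{u} Bool → X.Opens := fun i => cond i.down U W
  let zU : Γ(X, U ⊓ W) := resR inf_le_right z
  let gU : Γ(X, U ⊓ W) := resR inf_le_left (G ^ M)
  have hgz : gU * zU = 1 := (mul_comm _ _).trans hrel
  let g : ∀ i j, (Γ(X, O i ⊓ O j))ˣ := fun i j => match i, j with
    | ⟨true⟩, ⟨true⟩ => 1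
    | ⟨false⟩, ⟨false⟩ => 1
    | ⟨true⟩, ⟨false⟩ => ⟨zU, gU, hrel, hgz⟩
    | ⟨false⟩, ⟨true⟩ => Units.map (resR (le_inf inf_le_right inf_le_left : W ⊓ U ≤ U ⊓ W)).toMonoidHom
        ⟨gU, zU, hgz, hrel⟩
  let t : H23.CocycleMod.Cocycle O :=
    { g := g
      trans := fun i j k T hi hj hk => by
        obtain ⟨i⟩ := i
        obtain ⟨j⟩ := j
        obtain ⟨k⟩ := k
        cases i <;> cases j <;> cases k <;>
          simp only [g, O, cond_true, cond_false, Units.val_one, map_one, mul_one, one_mul, Units.coe_map,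
            RingHom.toMonoidHom_eq_coe, MonoidHom.coe_coe, Units.val_mk, resR_resR]
        all_goals first
          | rfl
          | (rw [← map_mul, hrel, map_one])
          | (rw [← map_mul, hgz, map_one]) }
  let L := H23.CocycleMod.mod t
  let fr : ∀ i, Γ(L, O i) := fun i => H23.CocycleMod.frame t i
  have hL : PicF.IsInvertible L := H23.CocycleMod.isInvertible t (eq_top_iff.2 fun p _ => by
    by_cases hp : p ∈ U
    · exact Opens.mem_iSup.2 ⟨⟨true⟩, hp⟩
    · exact Opens.mem_iSup.2 ⟨⟨false⟩, hcov p hp⟩)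
  let fU : Γ(L, U) := fr ⟨true⟩
  let fW : Γ(L, W) := fr ⟨false⟩
  have hrelf : res L (inf_le_left : U ⊓ W ≤ U) fU = zU • res L (inf_le_right : U ⊓ W ≤ W) fW :=
    H23.CocycleMod.res_frame t ⟨true⟩ ⟨false⟩
  have hsec : ∀ (cU : Γ(X, U)) (cW : Γ(X, W)), resR inf_le_left cU * zU = resR inf_le_right cW →
      ∃ s : Coh.structureModule X ⟶ L, CohB1.genLocus L s ⊓ U = X.basicOpen cU ∧
        CohB1.genLocus L s ⊓ W = X.basicOpen cW := by
    intro cU cW hc
    let f : ∀ i, Γ(L, O i) := fun i => match i with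
      | ⟨true⟩ => cU • fU
      | ⟨false⟩ => cW • fW
    have h0 : res L (inf_le_left : U ⊓ W ≤ U) (cU • fU) = res L (inf_le_right : U ⊓ W ≤ W) (cW • fW) := by
      rw [res_smul, res_smul, hrelf, smul_smul, hc]
    obtain ⟨s, hs, -⟩ := existsUnique_glue (V := ⊤) O (fun _ => le_top)
      (fun p _ => Opens.mem_iSup.1 ((eq_top_iff.1 (show iSup O = ⊤ from eq_top_iff.2 fun q _ => by
        by_cases hq : q ∈ U
        · exact Opens.mem_iSup.2 ⟨⟨true⟩, hq⟩
        · exact Opens.mem_iSup.2 ⟨⟨false⟩, hcov q hq⟩)) trivial)) f fun i j => by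
      obtain ⟨i⟩ := i
      obtain ⟨j⟩ := j
      cases i <;> cases j
      · rfl
      · have := congrArg (res L (le_inf inf_le_right inf_le_left : W ⊓ U ≤ U ⊓ W)) h0
        rw [res_res, res_res] at this
        exact this.symm
      · exact h0
      · rfl
    refine ⟨InvX.ofSect s, InvX.genLocus_inf _ (e := fU) (H23.CocycleMod.isFrame_frame t ⟨true⟩) ?_,
      InvX.genLocus_inf _ (e := fW) (H23.CocycleMod.isFrame_frame t ⟨false⟩) ?_⟩
    · rw [InvX.one_ofSect]; exact hs ⟨true⟩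
    · rw [InvX.one_ofSect]; exact hs ⟨false⟩
  have hext : ∀ (A B : X.Opens), A ⊓ U = B ⊓ U → A ⊓ W = B ⊓ W → A = B := fun A B h1 h2 => by
    refine Opens.ext (Set.ext fun p => ?_)
    by_cases hp : p ∈ U
    · exact ⟨fun h => (h1.le ⟨h, hp⟩).1, fun h => (h1.ge ⟨h, hp⟩).1⟩
    · exact ⟨fun h => (h2.le ⟨h, hcov p hp⟩).1, fun h => (h2.ge ⟨h, hcov p hp⟩).1⟩
  obtain ⟨s, hsU, hsW⟩ := hsec 1 z (by rw [map_one, one_mul])
  obtain ⟨s', hs'U, hs'W⟩ := hsec (G ^ M) 1 (by rw [map_one]; exact hgz)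
  have hs : CohB1.genLocus L s = U := hext _ _ (by rw [hsU, inf_idem, X.basicOpen_of_isUnit isUnit_one])
    (by rw [hsW, hzlocus])
  have hs' : CohB1.genLocus L s' = W := hext _ _
    (by rw [hs'U, Scheme.basicOpen_pow _ _ hM, ← hUW, inf_comm])
    (by rw [hs'W, inf_idem, X.basicOpen_of_isUnit isUnit_one])
  refine ⟨L, s, AmpleX.isAmple_iff.2 ⟨hL, inferInstance, fun x => ?_⟩, hs⟩
  let e : L ≅ CohB1.tensorPow L 1 := (CurveTensor.structureTensorIso L).symm
  by_cases hx : x ∈ U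
  · exact ⟨1, one_pos, s ≫ e.hom, by rw [InvX.genLocus_comp_iso, hs]; exact hx,
      by rw [InvX.genLocus_comp_iso, hs]; exact hU⟩
  · exact ⟨1, one_pos, s' ≫ e.hom, by rw [InvX.genLocus_comp_iso, hs']; exact hcov x hx,
      by rw [InvX.genLocus_comp_iso, hs']; exact hW⟩

theorem exists_isAmple [X.IsSeparated] [IsNoetherian X] (hdim : topologicalKrullDim X ≤ 1) :
    ∃ L : X.Modules, CohB1.IsAmple L := by
  obtain ⟨U, hU, hT⟩ := exists_affine_containing hdim (finite_setOf_isGen (X := X)).toFinset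
  obtain ⟨L, -, hL, -⟩ := exists_isAmple_section hdim hU fun c hc => hT c (by simp [hc])
  exact ⟨L, hL⟩

end Groth.Agent.DimOne
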