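import Groth.Agent.DimOne.Residue
import Groth.Agent.S7665
import Groth.Agent.S1607
import Groth.Agent.AffineNhd.PerComponent
import Groth.Agent.AModX.Res
import Mathlib.RingTheory.Coprime.Ideal

/-! Finite sets of points on a Noetherian separated scheme of dimension at most one lie in affine opens. -/

noncomputable section

set_option linter.style.haveILetI false
set_option backward.isDefEq.respectTransparency false
set_option backward.isDefEq.respectTransparency.types false

universe u

open CategoryTheory CategoryTheory.Limits AlgebraicGeometry TopologicalSpace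

namespace Groth.Agent.DimOne

variable {X : Scheme.{u}}

/-- Local rings at two distinct closed points generate the residue field. -/
theorem locSub_sup_eq_top [X.IsSeparated] [IsNoetherian X] (hdim : topologicalKrullDim X ≤ 1) {c d d' : X}
    (hgen : IsGen c) (h : c ⤳ d) (h' : c ⤳ d') (hd : ¬ IsGen d) (hne : d ≠ d') :
    locSub h' ⊔ locSub h = ⊤ := by
  obtain ⟨U, hU, hd'U, hUO⟩ := exists_isAffineOpen_mem_and_subset (x := d')
    (U := (⟨{d}ᶜ, (isClosed_singleton hdim hd).isOpen_compl⟩ : X.Opens)) (Ne.symm hne)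
  have hc : c ∈ U := h'.mem_open U.2 hd'U
  refine top_le_iff.1 ((range_sup_locSub_eq_top hdim hgen h hU hc fun hh => hUO hh rfl).symm.le.trans
    (sup_le_sup_right ?_ _))
  rintro _ ⟨f, rfl⟩
  exact eval_mem_locSub h' hd'U f

theorem evaluation_injective [IsIntegral X] {O : X.Opens} {c : X} (hc : c ∈ O) (hgen : IsGen c) :
    Function.Injective (X.evaluation O c hc) := by
  rw [injective_iff_map_eq_zero]
  intro f hf
  have h1 := (X.evaluation_eq_zero_iff_notMem_basicOpen c hc f).1 hf
  by_contra hf0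
  have h2 : (X.basicOpen f : Set X).Nonempty :=
    (Opens.ne_bot_iff_nonempty _).1 ((basicOpen_eq_bot_iff f).not.2 hf0)
  have h3 : c = genericPoint X :=
    (hgen _ ((genericPoint_spec X).specializes trivial)).symm
  exact h1 (h3 ▸ ((genericPoint_spec X).mem_open_set_iff (X.basicOpen f).2).2 (by simpa using h2))

/-- Finitely many closed points of an integral curve lie in an affine open. -/
theorem exists_affine_of_integral [IsIntegral X] [X.IsSeparated] [IsNoetherian X]
    (hdim : topologicalKrullDim X ≤ 1) (T : Finset X) :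
    ∃ A : X.Opens, IsAffineOpen A ∧ ∀ t ∈ T, t ∈ A := by
  classical
  let c := genericPoint X
  have hspec : ∀ x : X, c ⤳ x := fun x => (genericPoint_spec X).specializes trivial
  have hgen : IsGen c := fun y hy => ((hspec y).antisymm hy).eq.symm
  have hng : ∀ x : X, x ≠ c → ¬ IsGen x := fun x hx hg => hx (hg c (hspec x)).symm
  let D := T.erase c
  obtain ⟨V₀, hV₀, hcV₀⟩ := exists_affine_nhd c
  by_cases hr : D.card = 0
  · refine ⟨V₀, hV₀, fun t ht => ?_⟩
    have : t = c := by
      by_contra hne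
      exact absurd (Finset.card_pos.2 ⟨t, Finset.mem_erase.2 ⟨hne, ht⟩⟩) (by simp [D] at hr ⊢; omega)
    exact this.symm ▸ hcV₀
  let e := D.equivFin
  let dd : Fin D.card → X := fun i => (e.symm i).1
  have hddinj : Function.Injective dd := fun i j h => e.symm.injective (Subtype.ext h)
  have hddc : ∀ i, dd i ≠ c := fun i => (Finset.mem_erase.1 (e.symm i).2).1
  let B : Fin D.card → Subring (X.residueField c) := fun i => locSub (hspec (dd i))
  haveI : ∀ i, IsNoetherianRing (B i) := fun i => isNoetherianRing_locSub _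
  haveI : ∀ i, IsFractionRing (B i) (X.residueField c) := fun i => isFractionRing_locSub _
  obtain ⟨-, hRdim, -, hRfrac, -, -, huniq⟩ := S7665.result (X.residueField c) D.card (Nat.pos_of_ne_zero hr) B
    (fun i => ringKrullDim_locSub hdim _ (hddc i).symm) (fun i => finite_maximalSpectrum_locSub _)
    (fun i j hij => locSub_sup_eq_top hdim hgen _ _ (hng _ (hddc j)) fun h => hij (hddinj h).symm)
  let R : Subring (X.residueField c) := ⨅ i, B i
  haveI : IsFractionRing R (X.residueField c) := hRfrac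
  let q : Fin D.card → Ideal R := fun i =>
    (IsLocalRing.maximalIdeal (locSub (hspec (dd i)))).comap (Subring.inclusion (iInf_le B i))
  haveI : Ring.KrullDimLE 1 R := Ring.krullDimLE_iff.2 (le_of_eq hRdim)
  have hqmax : ∀ i, (q i).IsMaximal := fun i => by
    haveI hp : (q i).IsPrime := Ideal.comap_isPrime _ _
    refine Ring.krullDimLE_one_iff_of_noZeroDivisors.1 inferInstance _ (fun hbot => ?_) hp
    obtain ⟨b, hb, hb0⟩ :=
      Submodule.exists_mem_ne_zero_of_ne_bot (maximalIdeal_locSub_ne_bot (hspec (dd i)) (hddc i).symm)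
    obtain ⟨x, y, hy, hxy⟩ := IsFractionRing.div_surjective (A := R) (b : X.residueField c)
    have hy0 : algebraMap R (X.residueField c) y ≠ 0 := IsFractionRing.to_map_ne_zero_of_mem_nonZeroDivisors hy
    have hx : x ∈ q i := by
      show Subring.inclusion (iInf_le B i) x ∈ IsLocalRing.maximalIdeal (locSub (hspec (dd i)))
      have : Subring.inclusion (iInf_le B i) x = b * Subring.inclusion (iInf_le B i) y :=
        Subtype.ext ((div_eq_iff hy0).1 hxy)
      exact this ▸ Ideal.mul_mem_right _ _ hb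
    rw [hbot, Ideal.mem_bot] at hx
    subst hx
    rw [map_zero, zero_div] at hxy
    exact hb0 (Subtype.ext hxy.symm)
  have hrange : ∀ i, (⟨q i, (hqmax i).isPrime⟩ : PrimeSpectrum R) ∈
      Set.range (Spec.map (CommRingCat.ofHom (Subring.inclusion (iInf_le B i)))).base :=
    fun i => ⟨IsLocalRing.closedPoint (locSub (hspec (dd i))), rfl⟩
  have hqinj : ∀ i j, i ≠ j → q i ⊔ q j = ⊤ := fun i j hij =>
    Ideal.IsMaximal.coprime_of_ne (hqmax i) (hqmax j) fun h => hij <| by
      obtain ⟨k, -, hk⟩ := huniq ⟨q i, (hqmax i).isPrime⟩ (hqmax i)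
      have h' : (⟨q j, (hqmax j).isPrime⟩ : PrimeSpectrum R) = ⟨q i, (hqmax i).isPrime⟩ := PrimeSpectrum.ext h.symm
      exact (hk i (hrange i)).trans (hk j (h' ▸ hrange j)).symm
  haveI : Nonempty (Fin D.card) := ⟨⟨0, Nat.pos_of_ne_zero hr⟩⟩
  obtain ⟨μ, hμ⟩ := (Submodule.mem_iSup_finset_iff_exists_sum (s := (Finset.univ : Finset (Fin D.card))) (p := fun i => ⨅ (j) (_ : j ∈ (Finset.univ : Finset (Fin D.card))) (_ : j ≠ i), q j) (a := (1 : R))).1
    ((Ideal.eq_top_iff_one _).1 ((Ideal.iSup_iInf_eq_top_iff_pairwise Finset.univ_nonempty q).2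
      fun i _ j _ hij => hqinj i j hij))
  have hμq : ∀ i j, j ≠ i → (μ i : R) ∈ q j := fun i j hji => by
    have := (μ i).2
    simp only [Submodule.mem_iInf] at this
    exact this j (Finset.mem_univ _) hji
  -- representing sections
  have hsec : ∀ i j, ∃ (O : X.Opens) (hd : dd j ∈ O) (σ : Γ(X, O)),
      X.evaluation O c ((hspec _).mem_open O.2 hd) σ = ((μ i : R) : X.residueField c) ∧
        (j ≠ i → X.evaluation O (dd j) hd σ = 0) := fun i j => by
    obtain ⟨a, ha⟩ := Subring.mem_iInf.1 (μ i : R).2 j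
    obtain ⟨O, hd, σ, rfl⟩ := X.presheaf.germ_exist a
    refine ⟨O, hd, σ, (toRes_germ (hspec (dd j)) hd σ).symm.trans ha, fun hji => ?_⟩
    refine Ideal.Quotient.eq_zero_iff_mem.2 ((mem_maximalIdeal_iff (hspec (dd j)) _).1 ?_)
    have h1 : (toRes (hspec (dd j))).rangeRestrict (X.presheaf.germ O (dd j) hd σ) =
        Subring.inclusion (iInf_le B j) (μ i : R) := Subtype.ext ha
    have h2 : (toRes (hspec (dd j))).rangeRestrict (X.presheaf.germ O (dd j) hd σ) ∈
        IsLocalRing.maximalIdeal (locSub (hspec (dd j))) :=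
      (congrArg (· ∈ IsLocalRing.maximalIdeal (locSub (hspec (dd j)))) h1).mpr (hμq i j hji)
    exact h2
  choose O hdO σ hσc hσ0 using hsec
  choose V hV hdV using fun i => exists_affine_nhd (dd i)
  let F : Set X := (⋃ i, (V i : Set X)ᶜ) \ ↑T
  have hFgen : ∀ z ∈ ⋃ i, (V i : Set X)ᶜ, ¬ IsGen z := fun z hz hg => by
    obtain ⟨i, hi⟩ := Set.mem_iUnion.1 hz
    exact hi ((hg c (hspec z)) ▸ (hspec (dd i)).mem_open (V i).2 (hdV i))
  have hFfin : F.Finite := (finite_of_forall_not_isGen hdim
    (isClosed_iUnion_of_finite fun i => (V i).2.isClosed_compl) hFgen).sdiff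
  let Fc : X.Opens := ⟨Fᶜ, isOpen_compl_of_forall_not_isGen hdim hFfin fun z hz => hFgen z hz.1⟩
  let O' : Fin D.card → X.Opens := fun j =>
    Fc ⊓ ⟨⋂ i, (O i j : Set X), isOpen_iInter_of_finite fun i => (O i j).2⟩
  have hO'le : ∀ i j, O' j ≤ O i j := fun i j x hx => Set.mem_iInter.1 hx.2 i
  let A : X.Opens := ⨆ j, O' j
  have hdA : ∀ j, dd j ∈ O' j := fun j =>
    ⟨fun h => h.2 (Finset.mem_erase.1 (e.symm j).2).2, Set.mem_iInter.2 fun i => hdO i j⟩
  have hcA : c ∈ A := (hspec _).mem_open A.2 (le_iSup O' ⟨0, Nat.pos_of_ne_zero hr⟩ (hdA _))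
  have hglue : ∀ i, ∃ s : Γ(X, A), ∀ j, AModX.resR (le_iSup O' j) s = AModX.resR (hO'le i j) (σ i j) := fun i => by
    obtain ⟨s, hs, -⟩ := TopCat.Sheaf.existsUnique_gluing' X.sheaf O' A (fun j => homOfLE (le_iSup O' j))
      le_rfl (fun j => AModX.resR (hO'le i j) (σ i j)) fun a b => by
        show AModX.resR (inf_le_left : O' a ⊓ O' b ≤ O' a) (AModX.resR (hO'le i a) (σ i a)) =
          AModX.resR (inf_le_right : O' a ⊓ O' b ≤ O' b) (AModX.resR (hO'le i b) (σ i b))
        have hcab : c ∈ O' a ⊓ O' b := ⟨(hspec _).mem_open (O' a).2 (hdA a), (hspec _).mem_open (O' b).2 (hdA b)⟩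
        apply evaluation_injective hcab hgen
        rw [AModX.resR_resR, AModX.resR_resR]
        exact ((evaluation_res _ hcab _).trans (hσc i a)).trans ((evaluation_res _ hcab _).trans (hσc i b)).symm
    exact ⟨s, hs⟩
  choose s hs using hglue
  have hsc : ∀ i, X.evaluation A c hcA (s i) = ((μ i : R) : X.residueField c) := fun i => by
    let j : Fin D.card := ⟨0, Nat.pos_of_ne_zero hr⟩
    have hcj : c ∈ O' j := (hspec _).mem_open (O' j).2 (hdA j)
    rw [← evaluation_res (le_iSup O' j) hcj]
    exact (congrArg _ (hs i j)).trans ((evaluation_res _ hcj _).trans (hσc i j))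
  have hsum : ∑ i, s i = 1 := evaluation_injective hcA hgen (by
    rw [map_sum, map_one, Finset.sum_congr rfl fun i _ => hsc i]
    have := congrArg (fun r : R => (r : X.residueField c)) hμ
    simpa using this)
  have hmemA : ∀ i, X.basicOpen (s i) ≤ V i := fun i y hy => by
    have hyA : y ∈ A := X.basicOpen_le _ hy
    by_cases hyd : ∃ j, y = dd j
    · obtain ⟨j, rfl⟩ := hyd
      by_contra hyV
      have hji : j ≠ i := fun h => hyV (h ▸ hdV j)
      refine (X.evaluation_ne_zero_iff_mem_basicOpen _ hyA (s i)).2 hy ?_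
      rw [← evaluation_res (le_iSup O' j) (hdA j)]
      exact (congrArg _ (hs i j)).trans ((evaluation_res _ (hdA j) _).trans (hσ0 i j hji))
    · by_cases hyc : y = c
      · exact hyc ▸ (hspec _).mem_open (V i).2 (hdV i)
      · obtain ⟨j, hj⟩ := Opens.mem_iSup.1 hyA
        by_contra hyV
        refine hj.1 ⟨Set.mem_iUnion.2 ⟨i, hyV⟩, fun hyT => hyd ⟨e ⟨y, Finset.mem_erase.2 ⟨hyc, hyT⟩⟩, ?_⟩⟩
        simp [dd]
  refine ⟨A, ?_, fun t ht => ?_⟩
  · haveI : NoetherianSpace X := inferInstance
    have haff : ∀ i, IsAffineOpen (X.basicOpen (s i)) := fun i => by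
      haveI : IsAffine (V i : Scheme.{u}) := hV i
      haveI : NoetherianSpace (V i : Scheme.{u}) := (V i).ι.isOpenEmbedding.isEmbedding.isInducing.noetherianSpace
      have h1 := S1607.result (V i : Scheme.{u})
        (fun x => ⟨inferInstance, (CurveCohLib.ringKrullDim_stalk_le_topologicalKrullDim x).trans
          (((V i).ι.isOpenEmbedding.isEmbedding.isInducing.topologicalKrullDim_le).trans hdim)⟩)
        ((V i).ι ⁻¹ᵁ X.basicOpen (s i)) (NoetherianSpace.isCompact _)
      have := h1.image_of_isOpenImmersion (V i).ι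
      rwa [Scheme.Hom.image_preimage_eq_opensRange_inf, Scheme.Opens.opensRange_ι,
        inf_eq_right.2 (hmemA i)] at this
    refine isAffine_of_isAffineOpen_basicOpen (Set.range fun i => A.topIso.inv (s i)) ?_ ?_
    · rw [Ideal.eq_top_iff_one, ← map_one A.topIso.inv.hom, ← hsum, map_sum]
      exact Ideal.sum_mem _ fun i _ => Ideal.subset_span ⟨i, rfl⟩
    · rintro _ ⟨i, rfl⟩
      apply (A.ι.isAffineOpen_iff_of_isOpenImmersion).1
      rw [Scheme.Opens.ι_image_basicOpen', show X.presheaf.map (eqToHom A.ι_image_top.symm).op (A.topIso.inv (s i)) = s i from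
        map_map_self _ _ (s i)]
      exact haff i
  · by_cases htc : t = c
    · exact htc ▸ hcA
    · have h1 := le_iSup O' (e ⟨t, Finset.mem_erase.2 ⟨htc, ht⟩⟩) (hdA _)
      simp only [dd, Equiv.symm_apply_apply] at h1
      exact h1

/-- Finitely many points of a Noetherian separated scheme of dimension at most one lie in an affine open. -/
theorem exists_affine_containing [X.IsSeparated] [IsNoetherian X] (hdim : topologicalKrullDim X ≤ 1)
    (T : Finset X) : ∃ A : X.Opens, IsAffineOpen A ∧ ∀ t ∈ T, t ∈ A := by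
  classical
  refine AffineNhd.exists_affineOpen_of_per_component X NoetherianSpace.finite_irreducibleComponents T
    fun Z hZ => ?_
  let Y : Closeds X := ⟨Z, isClosed_of_mem_irreducibleComponents Z hZ⟩
  have hr : Set.range (AffineNhd.redι Y) = Z := AffineNhd.range_redι Y
  haveI : IsReduced (AffineNhd.red Y) := H23.RedSub.isReduced_vanishingIdeal Y
  haveI : IrreducibleSpace (AffineNhd.red Y) := by
    haveI : IrreducibleSpace ↥(Set.range (AffineNhd.redι Y)) := by
      rw [hr]; exact Subtype.irreducibleSpace hZ.1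
    exact (AffineNhd.redι Y).isClosedEmbedding.isEmbedding.toHomeomorph.symm.surjective.irreducibleSpace
      (AffineNhd.redι Y).isClosedEmbedding.isEmbedding.toHomeomorph.symm.continuous
  haveI : IsIntegral (AffineNhd.red Y) := isIntegral_of_irreducibleSpace_of_isReduced _
  haveI : (AffineNhd.red Y).IsSeparated :=
    ⟨by rw [← terminal.comp_from (AffineNhd.redι Y)]; infer_instance⟩
  haveI : IsLocallyNoetherian (AffineNhd.red Y) := LocallyOfFiniteType.isLocallyNoetherian (AffineNhd.redι Y)
  haveI : NoetherianSpace (AffineNhd.red Y) :=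
    (AffineNhd.redι Y).isClosedEmbedding.isEmbedding.isInducing.noetherianSpace
  haveI : IsNoetherian (AffineNhd.red Y) := {}
  obtain ⟨A, hA, hT⟩ := exists_affine_of_integral
    ((AffineNhd.redι Y).isClosedEmbedding.isEmbedding.isInducing.topologicalKrullDim_le.trans hdim)
    ((T.preimage (AffineNhd.redι Y) (AffineNhd.redι Y).isClosedEmbedding.injective.injOn))
  refine ⟨A, hA, fun t ht htZ => ?_⟩
  obtain ⟨y, rfl⟩ : t ∈ Set.range (AffineNhd.redι Y) := hr.ge htZ
  exact ⟨y, hT y (Finset.mem_preimage.2 ht), rfl⟩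

end Groth.Agent.DimOne
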