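import Groth.Agent.DimOne.Integral
import Groth.Agent.KrullAki.Avoid

/-! A function on an affine open with poles along the whole boundary. -/

noncomputable section

set_option linter.style.haveILetI false
set_option backward.isDefEq.respectTransparency false
set_option backward.isDefEq.respectTransparency.types false

universe u

open CategoryTheory CategoryTheory.Limits AlgebraicGeometry TopologicalSpace

namespace Groth.Agent.DimOne

/-- High powers of a nonunit absorb any element of the fraction field. -/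
theorem exists_pow_mul_mem {K : Type u} [Field K] (B : Subring K) [IsFractionRing B K] [IsLocalRing B]
    (hdim : ringKrullDim B ≤ 1) (w : B) (hw : w ∈ IsLocalRing.maximalIdeal B) (a : K) :
    ∃ N : ℕ, ∀ n, N ≤ n → ∃ y ∈ IsLocalRing.maximalIdeal B, (y : K) = (w : K) ^ n * a := by
  haveI : Ring.KrullDimLE 1 B := Ring.krullDimLE_iff.2 hdim
  obtain ⟨p, r, hr, rfl⟩ := IsFractionRing.div_surjective (A := B) a
  have hr0 : r ≠ 0 := nonZeroDivisors.ne_zero hr
  have hrad : w ∈ (Ideal.span {r}).radical := by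
    rw [Ideal.radical_eq_sInf]
    refine Submodule.mem_sInf.2 fun P ⟨hrP, hP⟩ => ?_
    have hP0 : P ≠ ⊥ := fun h => hr0 (by
      have := hrP (Ideal.mem_span_singleton_self r)
      rwa [h, Ideal.mem_bot] at this)
    rw [IsLocalRing.eq_maximalIdeal (Ring.krullDimLE_one_iff_of_noZeroDivisors.1 inferInstance P hP0 hP)]
    exact hw
  obtain ⟨N, hN⟩ := hrad
  obtain ⟨c, hc⟩ := Ideal.mem_span_singleton'.1 hN
  refine ⟨N + 1, fun n hn => ⟨w ^ (n - N) * (c * p),
    Ideal.mul_mem_right _ _ (Ideal.pow_mem_of_mem _ hw _ (by omega)), ?_⟩⟩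
  have hr' : (r : K) ≠ 0 := fun h => hr0 (Subtype.ext h)
  have hc' : (c : K) * r = (w : K) ^ N := congrArg Subtype.val hc
  show ((w ^ (n - N) * (c * p) : B) : K) = _ * ((p : K) / r)
  push_cast
  rw [mul_div_assoc', eq_div_iff hr']
  conv_rhs => rw [show n = n - N + N by omega, pow_add, ← hc']
  ring

variable {X : Scheme.{u}}

/-- A function on an affine open, nonzero at the generic points, vanishing off a second open and with
poles along every branch through the boundary. -/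
theorem exists_pole [X.IsSeparated] [IsNoetherian X] (hdim : topologicalKrullDim X ≤ 1) {U : X.Opens}
    (hU : IsAffineOpen U) (hgenU : ∀ c : X, IsGen c → c ∈ U) {V : X.Opens} (hgenV : ∀ c : X, IsGen c → c ∈ V) :
    ∃ G : Γ(X, U), (∀ (c : X) (hc : IsGen c), X.evaluation U c (hgenU c hc) G ≠ 0) ∧
      (∀ (y : X) (hy : y ∈ U), y ∉ V → X.evaluation U y hy G = 0) ∧
      ∀ (c : X) (hc : IsGen c) (d : X) (h : c ⤳ d), d ∉ U →
        ∃ b ∈ IsLocalRing.maximalIdeal (X.presheaf.stalk d), toRes h b * X.evaluation U c (hgenU c hc) G = 1 := by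
  classical
  let Gn := {c : X // IsGen c}
  haveI : Finite Gn := (finite_setOf_isGen (X := X)).to_subtype
  haveI := Fintype.ofFinite Gn
  have hDgen : ∀ d ∈ (U : Set X)ᶜ, ¬ IsGen d := fun d hd hg => hd (hgenU d hg)
  have hDfin : ((U : Set X)ᶜ).Finite := finite_of_forall_not_isGen hdim U.2.isClosed_compl hDgen
  have hD'fin : ((V : Set X)ᶜ).Finite :=
    finite_of_forall_not_isGen hdim V.2.isClosed_compl fun d hd hg => hd (hgenV d hg)
  have hx : ∀ c : Gn, ∃ x : Γ(X, U), X.evaluation U c.1 (hgenU _ c.2) x ≠ 0 ∧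
      ∀ (d : X) (h : c.1 ⤳ d), d ∉ U → ∃ w ∈ IsLocalRing.maximalIdeal (locSub h),
        (w : X.residueField c.1) = (X.evaluation U c.1 (hgenU _ c.2) x)⁻¹ := by
    intro c
    let Dc := {d : X // c.1 ⤳ d ∧ d ∉ U}
    haveI : Finite Dc := (hDfin.subset fun d (hd : c.1 ⤳ d ∧ d ∉ U) => hd.2).to_subtype
    haveI : IsFractionRing (X.evaluation U c.1 (hgenU _ c.2)).hom.range (X.residueField c.1) :=
      isFractionRing_range hU _ _ fun f => ⟨f, rfl⟩
    haveI : ∀ d : Dc, IsNoetherianRing (locSub d.2.1) := fun d => isNoetherianRing_locSub _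
    haveI : ∀ d : Dc, IsFractionRing (locSub d.2.1) (X.residueField c.1) := fun d => isFractionRing_locSub _
    obtain ⟨z, ⟨x, rfl⟩, hz0, hz⟩ := KrullAki.exists_inv_mem_jacobson (X.evaluation U c.1 (hgenU _ c.2)).hom.range
      (fun d : Dc => locSub d.2.1)
      (fun d => ringKrullDim_locSub hdim _ fun e => d.2.2 (e ▸ hgenU _ c.2))
      (fun d => finite_maximalSpectrum_locSub _)
      (fun d => range_sup_locSub_eq_top hdim c.2 _ hU _ d.2.2)
    refine ⟨x, hz0, fun d h hd => ?_⟩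
    obtain ⟨hw, hJ⟩ := hz ⟨d, h, hd⟩
    rw [IsLocalRing.jacobson_eq_maximalIdeal _ bot_ne_top] at hJ
    exact ⟨⟨_, hw⟩, hJ, rfl⟩
  choose x hx0 hxw using hx
  have hsep : ∀ c : Gn, ∃ h : Γ(X, U), X.evaluation U c.1 (hgenU _ c.2) h ≠ 0 ∧
      (∀ c' : Gn, c' ≠ c → X.evaluation U c'.1 (hgenU _ c'.2) h = 0) ∧
      ∀ (y : X) (hy : y ∈ U), y ∉ V → X.evaluation U y hy h = 0 := by
    intro c
    let T : Set X := ({y | IsGen y} \ {c.1}) ∪ ((V : Set X)ᶜ ∩ U)
    have hTfin : T.Finite := (finite_setOf_isGen.sdiff).union (hD'fin.inter_of_left _)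
    have hT : ∀ y ∈ hTfin.toFinset, ∃ hy : y ∈ U, ∃ f : Γ(X, U),
        X.evaluation U c.1 (hgenU _ c.2) f ≠ 0 ∧ X.evaluation U y hy f = 0 := fun y hy => by
      rcases hTfin.mem_toFinset.1 hy with ⟨hg, hne⟩ | ⟨hyV, hyU⟩
      · exact ⟨hgenU y hg, exists_eval_ne_zero_eq_zero hU _ _ fun h => hne (c.2 y h)⟩
      · exact ⟨hyU, exists_eval_ne_zero_eq_zero hU _ _ fun h => hyV ((c.2 y h).symm ▸ hgenV _ c.2)⟩
    choose! hyU f hf0 hfy using hT
    refine ⟨∏ y ∈ hTfin.toFinset, f y, ?_, fun c' hc' => ?_, fun y hy hyV => ?_⟩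
    · rw [map_prod]
      exact Finset.prod_ne_zero_iff.2 hf0
    · rw [map_prod]
      have hmem : c'.1 ∈ hTfin.toFinset := hTfin.mem_toFinset.2 (Or.inl ⟨c'.2, fun h => hc' (Subtype.ext h)⟩)
      exact Finset.prod_eq_zero hmem (hfy _ hmem)
    · rw [map_prod]
      have hmem : y ∈ hTfin.toFinset := hTfin.mem_toFinset.2 (Or.inr ⟨hyV, hy⟩)
      exact Finset.prod_eq_zero hmem (hfy _ hmem)
  choose h hh0 hhc hhV using hsep
  have hN : ∀ p : {p : Gn × X // p.1.1 ⤳ p.2 ∧ p.2 ∉ U}, ∃ N : ℕ, ∀ n, N ≤ n →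
      ∃ b ∈ IsLocalRing.maximalIdeal (locSub p.2.1), (b : X.residueField p.1.1.1) =
        (X.evaluation U p.1.1.1 (hgenU _ p.1.1.2) (h p.1.1 * x p.1.1 ^ n))⁻¹ := by
    rintro ⟨⟨c, d⟩, hcd, hd⟩
    obtain ⟨w, hw, hwx⟩ := hxw c d hcd hd
    obtain ⟨N, hN⟩ := exists_pow_mul_mem (locSub hcd)
      (ringKrullDim_locSub hdim hcd fun e => hd (e ▸ hgenU _ c.2)).le w hw
      (X.evaluation U c.1 (hgenU _ c.2) (h c))⁻¹
    refine ⟨N, fun n hn => ?_⟩
    obtain ⟨b, hb, hbe⟩ := hN n hn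
    exact ⟨b, hb, by rw [hbe, hwx, map_mul, map_pow, mul_inv, inv_pow, mul_comm]⟩
  haveI : Finite {p : Gn × X // p.1.1 ⤳ p.2 ∧ p.2 ∉ U} :=
    ((Set.finite_univ.prod hDfin).subset (t := {p : Gn × X | p.1.1 ⤳ p.2 ∧ p.2 ∉ U}) fun p hp => ⟨Set.mem_univ _, hp.2⟩).to_subtype
  choose N hN using hN
  obtain ⟨n, hn⟩ := (Set.finite_range N).bddAbove
  have hev : ∀ c : Gn, X.evaluation U c.1 (hgenU _ c.2) (∑ c', h c' * x c' ^ n) =
      X.evaluation U c.1 (hgenU _ c.2) (h c * x c ^ n) := fun c => by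
    rw [map_sum]
    exact Finset.sum_eq_single c (fun c' _ hne => by rw [map_mul, hhc c' c (Ne.symm hne), zero_mul])
      (fun hc => absurd (Finset.mem_univ c) hc)
  refine ⟨∑ c', h c' * x c' ^ n, fun c hc => ?_, fun y hy hyV => ?_, fun c hc d hcd hd => ?_⟩
  · rw [hev ⟨c, hc⟩, map_mul, map_pow]
    exact mul_ne_zero (hh0 _) (pow_ne_zero _ (hx0 _))
  · rw [map_sum]
    exact Finset.sum_eq_zero fun c' _ => by rw [map_mul, hhV c' y hy hyV, zero_mul]
  · obtain ⟨b, hb, hbe⟩ := hN ⟨(⟨c, hc⟩, d), hcd, hd⟩ n (hn ⟨_, rfl⟩)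
    obtain ⟨s, hs⟩ := (toRes hcd).rangeRestrict_surjective b
    refine ⟨s, (mem_maximalIdeal_iff hcd s).1 (hs ▸ hb), ?_⟩
    rw [hev ⟨c, hc⟩, show toRes hcd s = (b : X.residueField c) from congrArg Subtype.val hs, hbe]
    exact inv_mul_cancel₀ (by rw [map_mul, map_pow]; exact mul_ne_zero (hh0 _) (pow_ne_zero _ (hx0 _)))

end Groth.Agent.DimOne
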