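import Groth.Agent.DimOne.Basic
import Mathlib.RingTheory.KrullDimension.Basic
import Mathlib.RingTheory.Noetherian.Basic

/-! The one-dimensional local subrings of the residue field of a generic point. -/

noncomputable section

set_option linter.style.haveILetI false
set_option backward.isDefEq.respectTransparency false
set_option backward.isDefEq.respectTransparency.types false

universe u

open CategoryTheory CategoryTheory.Limits AlgebraicGeometry TopologicalSpace

namespace Groth.Agent.DimOne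

variable {X : Scheme.{u}} {c d : X}

/-- From the local ring at a specialization to the residue field. -/
def toRes (h : c ⤳ d) : X.presheaf.stalk d →+* X.residueField c :=
  (X.residue c).hom.comp (X.presheaf.stalkSpecializes h).hom

/-- The image of the local ring at a specialization in the residue field. -/
abbrev locSub (h : c ⤳ d) : Subring (X.residueField c) := (toRes h).range

theorem toRes_germ (h : c ⤳ d) {O : X.Opens} (hd : d ∈ O) (f : Γ(X, O)) :
    toRes h (X.presheaf.germ O d hd f) = X.evaluation O c (h.mem_open O.2 hd) f := by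
  show (X.residue c).hom ((X.presheaf.germ O d hd ≫ X.presheaf.stalkSpecializes h) f) = _
  rw [TopCat.Presheaf.germ_stalkSpecializes]
  rfl

theorem eval_mem_locSub (h : c ⤳ d) {O : X.Opens} (hd : d ∈ O) (f : Γ(X, O)) :
    X.evaluation O c (h.mem_open O.2 hd) f ∈ locSub h := ⟨_, toRes_germ h hd f⟩

theorem exists_affine_nhd (d : X) : ∃ V : X.Opens, IsAffineOpen V ∧ d ∈ V := by
  obtain ⟨V, hV, hd, -⟩ := exists_isAffineOpen_mem_and_subset (U := (⊤ : X.Opens)) (x := d) trivial
  exact ⟨V, hV, hd⟩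

theorem isFractionRing_range {U : X.Opens} (hU : IsAffineOpen U) (hc : c ∈ U) (B : Subring (X.residueField c))
    (h : ∀ f, X.evaluation U c hc f ∈ B) : IsFractionRing B (X.residueField c) := by
  refine IsFractionRing.of_field _ _ fun z => ?_
  obtain ⟨p, q, -, hz⟩ := exists_eval_div hU hc z
  exact ⟨⟨_, h p⟩, ⟨_, h q⟩, hz⟩

instance isFractionRing_locSub (h : c ⤳ d) : IsFractionRing (locSub h) (X.residueField c) := by
  obtain ⟨V, hV, hd⟩ := exists_affine_nhd d
  exact isFractionRing_range hV _ _ (eval_mem_locSub h hd)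

instance isNoetherianRing_locSub [IsLocallyNoetherian X] (h : c ⤳ d) : IsNoetherianRing (locSub h) :=
  isNoetherianRing_range (toRes h)

instance isLocalRing_locSub (h : c ⤳ d) : IsLocalRing (locSub h) :=
  IsLocalRing.of_surjective' (toRes h).rangeRestrict (toRes h).rangeRestrict_surjective

instance finite_maximalSpectrum_locSub (h : c ⤳ d) : Finite (MaximalSpectrum (locSub h)) :=
  Finite.of_injective (fun _ => ()) fun m n _ => MaximalSpectrum.ext
    ((IsLocalRing.eq_maximalIdeal m.isMaximal).trans (IsLocalRing.eq_maximalIdeal n.isMaximal).symm)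

theorem mem_maximalIdeal_iff (h : c ⤳ d) (a : X.presheaf.stalk d) :
    (toRes h).rangeRestrict a ∈ IsLocalRing.maximalIdeal (locSub h) ↔
      a ∈ IsLocalRing.maximalIdeal (X.presheaf.stalk d) := by
  haveI : IsLocalHom (toRes h).rangeRestrict :=
    IsLocalHom.of_surjective _ (toRes h).rangeRestrict_surjective
  exact ⟨fun hm => fun hu => hm (hu.map _), fun ha => map_nonunit _ a ha⟩

theorem eval_mem_maximalIdeal (h : c ⤳ d) {O : X.Opens} (hd : d ∈ O) {f : Γ(X, O)}
    (hf : X.evaluation O d hd f = 0) :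
    (⟨_, eval_mem_locSub h hd f⟩ : locSub h) ∈ IsLocalRing.maximalIdeal (locSub h) := by
  have h1 : X.presheaf.germ O d hd f ∈ IsLocalRing.maximalIdeal (X.presheaf.stalk d) :=
    Ideal.Quotient.eq_zero_iff_mem.1 hf
  have h2 := (mem_maximalIdeal_iff h _).2 h1
  rwa [show (toRes h).rangeRestrict (X.presheaf.germ O d hd f) = ⟨_, eval_mem_locSub h hd f⟩ from
    Subtype.ext (toRes_germ h hd f)] at h2

theorem maximalIdeal_locSub_ne_bot (h : c ⤳ d) (hne : c ≠ d) :
    IsLocalRing.maximalIdeal (locSub h) ≠ ⊥ := by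
  obtain ⟨V, hV, hd⟩ := exists_affine_nhd d
  obtain ⟨f, hf, hf0⟩ := exists_eval_ne_zero_eq_zero hV (h.mem_open V.2 hd) hd
    fun h' => hne (h.antisymm h').eq
  intro hbot
  have h1 := eval_mem_maximalIdeal h hd hf0
  rw [hbot, Ideal.mem_bot] at h1
  exact hf (congrArg Subtype.val h1)

theorem ringKrullDim_locSub (hdim : topologicalKrullDim X ≤ 1) (h : c ⤳ d) (hne : c ≠ d) :
    ringKrullDim (locSub h) = 1 := by
  refine le_antisymm ((ringKrullDim_le_of_surjective _ (toRes h).rangeRestrict_surjective).trans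
    ((CurveCohLib.ringKrullDim_stalk_le_topologicalKrullDim d).trans hdim)) ?_
  have h1 : (⟨⊥, Ideal.isPrime_bot⟩ : PrimeSpectrum (locSub h)) < IsLocalRing.closedPoint (locSub h) :=
    (bot_lt_iff_ne_bot (α := Ideal (locSub h))).2 (maximalIdeal_locSub_ne_bot h hne)
  exact Order.one_le_krullDim_iff.2 ⟨_, _, h1⟩

/-- On a separated scheme a local subring and the functions on an affine missing the point generate. -/
theorem range_sup_locSub_eq_top [X.IsSeparated] [IsNoetherian X] (hdim : topologicalKrullDim X ≤ 1) (hgen : IsGen c) (h : c ⤳ d)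
    {U : X.Opens} (hU : IsAffineOpen U) (hc : c ∈ U) (hdU : d ∉ U) :
    (X.evaluation U c hc).hom.range ⊔ locSub h = ⊤ := by
  set S := (X.evaluation U c hc).hom.range ⊔ locSub h
  refine eq_top_iff.2 fun a _ => ?_
  obtain ⟨V₀, hV₀, hdV₀⟩ := exists_affine_nhd d
  have hcV₀ : c ∈ V₀ := h.mem_open V₀.2 hdV₀
  obtain ⟨p, q, hq, rfl⟩ := exists_eval_div (hU.inf hV₀) (⟨hc, hcV₀⟩ : c ∈ U ⊓ V₀) a
  have hcq : c ∈ X.basicOpen q := (X.evaluation_ne_zero_iff_mem_basicOpen c _ q).1 hq
  let Z : Set X := closure {c} ∩ (X.basicOpen q : Set X)ᶜ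
  have hZgen : ∀ z ∈ Z, ¬ IsGen z := fun z hz hzg => hz.2 (by
    rw [← hzg c (specializes_iff_mem_closure.2 hz.1)]
    exact hcq)
  have hFfin : (Z ∩ U).Finite :=
    (finite_of_forall_not_isGen hdim (isClosed_closure.inter (X.basicOpen q).2.isClosed_compl) hZgen).inter_of_left _
  let O : X.Opens := V₀ ⊓ ⟨(Z ∩ U)ᶜ, isOpen_compl_of_forall_not_isGen hdim hFfin fun z hz => hZgen z hz.1⟩
  obtain ⟨V, hV, hdV, hVO⟩ := exists_isAffineOpen_mem_and_subset (x := d) (U := O) ⟨hdV₀, fun hh => hdU hh.2⟩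
  have hcV : c ∈ V := h.mem_open V.2 hdV
  have hW : IsAffineOpen (U ⊓ V) := hU.inf hV
  have hle : U ⊓ V ≤ U ⊓ V₀ := inf_le_inf_left _ fun y hy => (hVO hy).1
  let ev := (X.evaluation (U ⊓ V) c ⟨hc, hcV⟩).hom
  have hrange : ∀ f, ev f ∈ S := by
    have : (⊤ : Subring Γ(X, U ⊓ V)) ≤ S.comap ev := by
      rw [← closure_res_eq_top hU hV, Subring.closure_le]
      rintro z (⟨g, rfl⟩ | ⟨g, rfl⟩)
      · exact (le_sup_left : _ ≤ S) ⟨g, (evaluation_res (inf_le_left : U ⊓ V ≤ U) ⟨hc, hcV⟩ g).symm⟩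
      · refine (le_sup_right : _ ≤ S) ?_
        exact (evaluation_res (inf_le_right : U ⊓ V ≤ V) _ g).symm ▸ eval_mem_locSub h hdV g
    exact fun f => this trivial
  have hp : X.evaluation (U ⊓ V₀) c ⟨hc, hcV₀⟩ p = ev (X.presheaf.map (homOfLE hle).op p) :=
    (evaluation_res hle _ p).symm
  have hq' : X.evaluation (U ⊓ V₀) c ⟨hc, hcV₀⟩ q = ev (X.presheaf.map (homOfLE hle).op q) :=
    (evaluation_res hle _ q).symm
  set q' := X.presheaf.map (homOfLE hle).op q with hq'def
  obtain ⟨r, hr⟩ : ∃ r, ev (r * q') = 1 := by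
    suffices hJ : Ideal.span {q'} ⊔ RingHom.ker ev = ⊤ by
      obtain ⟨x, hx, y, hy, hxy⟩ := Submodule.mem_sup.1 ((Ideal.eq_top_iff_one _).1 hJ)
      obtain ⟨r, rfl⟩ := Ideal.mem_span_singleton'.1 hx
      refine ⟨r, ?_⟩
      have := congrArg ev hxy
      rw [map_add, RingHom.mem_ker.1 hy, add_zero, map_one] at this
      exact this
    by_contra hJ
    obtain ⟨m, hm, hle'⟩ := Ideal.exists_le_maximal _ hJ
    let y : X := hW.fromSpec ⟨m, hm.isPrime⟩
    have hyW : y ∈ U ⊓ V := hW.range_fromSpec.le ⟨_, rfl⟩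
    have hmem : ∀ f : Γ(X, U ⊓ V), y ∈ X.basicOpen f ↔ f ∉ m := fun f => by
      rw [← Scheme.Hom.mem_preimage, hW.fromSpec_preimage_basicOpen]
      rfl
    have hcy : c ⤳ y := specializes_iff_forall_open.2 fun O hO hyO => by
      obtain ⟨f, hf, hyf⟩ := hW.exists_basicOpen_le (V := ⟨O, hO⟩) ⟨y, hyO⟩ hyW
      refine hf (show c ∈ X.basicOpen f from by_contra fun hcf => (hmem f).1 hyf (hle' (Ideal.mem_sup_right ?_)))
      exact RingHom.mem_ker.2 ((X.evaluation_eq_zero_iff_notMem_basicOpen c _ f).2 hcf)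
    have hyq : y ∉ X.basicOpen q := fun hh => by
      have : y ∈ X.basicOpen q' := by
        rw [hq'def, Scheme.basicOpen_res]
        exact ⟨hyW, hh⟩
      exact (hmem q').1 this (hle' (Ideal.mem_sup_left (Ideal.mem_span_singleton_self _)))
    exact (hVO hyW.2).2 ⟨⟨hcy.mem_closure, hyq⟩, hyW.1⟩
  rw [div_eq_mul_inv, hp, hq', inv_eq_of_mul_eq_one_left ((map_mul ev r q').symm.trans hr), ← map_mul]
  exact hrange _

end Groth.Agent.DimOne
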